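import Mathlib
import Cfsg.Agent.Lib.PSolvable.Core
import Cfsg.Agent.Lib.Transfer.Sylow
import Cfsg.Agent.Lib.Fitting.Basic
import Cfsg.Agent.Lib.PPrimeAbelian.Tools

/-!
# Cyclic Sylow `p`-subgroups and abelian `p'`-subgroups: reductions
-/

set_option autoImplicit false
set_option linter.style.haveILetI false
set_option linter.unusedSectionVars false

namespace CfsgLib.CycAb

variable {G : Type*} [Group G] {p : ℕ}

/-- Every subgroup of order prime to `p` is abelian. -/
def Ab (p : ℕ) (G : Type*) [Group G] : Prop :=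
  ∀ H : Subgroup G, ¬ p ∣ Nat.card H → IsMulCommutative H

/-- Every Sylow `p`-subgroup is cyclic. -/
def Cyc (p : ℕ) (G : Type*) [Group G] : Prop :=
  ∀ P : Sylow p G, IsCyclic (P : Subgroup G)

/-- A normal `p`-complement or a normal Sylow `p`-subgroup. -/
def Good (p : ℕ) (G : Type*) [Group G] : Prop :=
  Cfsg.HasNormalPComplement p G ∨ ∀ P : Sylow p G, (P : Subgroup G).Normal

theorem comm_of_ab (h : Ab p G) {H : Subgroup G} (hH : ¬ p ∣ Nat.card H) {a b : G} (ha : a ∈ H)
    (hb : b ∈ H) : a * b = b * a :=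
  congrArg Subtype.val ((h H hH).is_comm.comm ⟨a, ha⟩ ⟨b, hb⟩)

theorem Ab.subgroup (h : Ab p G) (L : Subgroup G) : Ab p L := by
  intro U hU
  refine ⟨⟨fun a b => Subtype.ext (Subtype.ext ?_)⟩⟩
  exact comm_of_ab h (H := U.map L.subtype)
    (by rwa [Subgroup.card_map_of_injective L.subtype_injective])
    (Subgroup.mem_map_of_mem L.subtype a.2) (Subgroup.mem_map_of_mem L.subtype b.2)

theorem Cyc.subgroup (h : Cyc p G) (L : Subgroup G) : Cyc p L := by
  intro P
  obtain ⟨Q, hQ⟩ := (P.2.map L.subtype).exists_le_sylow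
  haveI := h Q
  haveI : IsCyclic ((P : Subgroup L).map L.subtype) :=
    isCyclic_of_injective (Subgroup.inclusion hQ) (Subgroup.inclusion_injective hQ)
  exact isCyclic_of_injective
    ((P : Subgroup L).equivMapOfInjective L.subtype L.subtype_injective).toMonoidHom
    ((P : Subgroup L).equivMapOfInjective L.subtype L.subtype_injective).injective

theorem Cyc.quotient [Finite G] [Fact p.Prime] (h : Cyc p G) (N : Subgroup G) [N.Normal] :
    Cyc p (G ⧸ N) := by
  intro P
  obtain ⟨Q, rfl⟩ := Sylow.mapSurjective_surjective (QuotientGroup.mk'_surjective N) p P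
  haveI := h Q
  exact isCyclic_of_surjective ((QuotientGroup.mk' N).subgroupMap (Q : Subgroup G))
    ((QuotientGroup.mk' N).subgroupMap_surjective _)

theorem Ab.quotient [Finite G] [hp : Fact p.Prime] (h : Ab p G) (N : Subgroup G) [N.Normal]
    (hN : IsPGroup p N ∨ ¬ p ∣ Nat.card N) : Ab p (G ⧸ N) := by
  intro U hU
  set f := QuotientGroup.mk' N
  have hf : Function.Surjective f := QuotientGroup.mk'_surjective N
  have hcard : Nat.card (U.comap f) = Nat.card N * Nat.card U := by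
    rw [PSolvable.card_comap_of_surjective hf, QuotientGroup.ker_mk']
  suffices hlift : ∃ H : Subgroup G, ¬ p ∣ Nat.card H ∧ U ≤ H.map f by
    obtain ⟨H, hH, hle⟩ := hlift
    refine ⟨⟨fun a b => Subtype.ext ?_⟩⟩
    obtain ⟨x, hx, hxa⟩ := hle a.2
    obtain ⟨y, hy, hyb⟩ := hle b.2
    show (a : G ⧸ N) * b = b * a
    rw [← hxa, ← hyb, ← map_mul, ← map_mul, comm_of_ab h hH hx hy]
  rcases hN with hN | hN
  swap
  · exact ⟨U.comap f, by rw [hcard]; exact hp.out.not_dvd_mul hN hU,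
      (Subgroup.map_comap_eq_self_of_surjective hf U).ge⟩
  set K := U.comap f
  have hNK : N ≤ K := fun x hx => by
    show f x ∈ U
    rw [show f x = 1 from (QuotientGroup.eq_one_iff x).mpr hx]
    exact one_mem U
  have hNc : Nat.card (N.subgroupOf K) = Nat.card N :=
    Nat.card_congr (Subgroup.subgroupOfEquivOfLe hNK).toEquiv
  have hidx : (N.subgroupOf K).index = Nat.card U := by
    have h1 := (N.subgroupOf K).card_mul_index
    rw [hNc, hcard] at h1
    exact Nat.eq_of_mul_eq_mul_left Nat.card_pos h1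
  obtain ⟨k, hk⟩ := IsPGroup.iff_card.mp hN
  obtain ⟨H, hH⟩ := Subgroup.exists_right_complement'_of_coprime (N := N.subgroupOf K)
    (by rw [hNc, hidx, hk]; exact (hp.out.coprime_iff_not_dvd.mpr hU).pow_left k)
  refine ⟨H.map K.subtype, ?_, fun u hu => ?_⟩
  · rw [Subgroup.card_map_of_injective K.subtype_injective]
    have h2 := hH.card_mul
    rw [hNc, hcard] at h2
    rwa [Nat.eq_of_mul_eq_mul_left Nat.card_pos h2]
  · obtain ⟨x, rfl⟩ := hf u
    obtain ⟨⟨n, hh⟩, he⟩ := hH.surjective (⟨x, hu⟩ : K)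
    refine ⟨K.subtype hh, Subgroup.mem_map_of_mem _ hh.2, ?_⟩
    have hx : x = (n : K) * (hh : K) := (congrArg Subtype.val he).symm
    rw [hx, map_mul, (show f ((n : K) : G) = 1 from (QuotientGroup.eq_one_iff _).mpr n.2), one_mul]
    rfl

/-- In a cyclic group a subgroup is contained in any one whose order it divides. -/
theorem le_of_card_dvd [Finite G] {Q A B : Subgroup G} (hcyc : IsCyclic Q) (hA : A ≤ Q) (hB : B ≤ Q)
    (hd : Nat.card A ∣ Nat.card B) : A ≤ B := by
  classical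
  haveI := hcyc
  haveI := Fintype.ofFinite Q
  have h1 := IsCyclic.card_pow_eq_one_le (α := Q) (n := Nat.card B) Nat.card_pos
  have hsub : (Finset.univ.filter fun a : Q => (a : G) ∈ B) ⊆
      Finset.univ.filter fun a : Q => a ^ Nat.card B = 1 := by
    intro a ha
    rw [Finset.mem_filter] at ha ⊢
    refine ⟨Finset.mem_univ _, orderOf_dvd_iff_pow_eq_one.mp ?_⟩
    rw [← Subgroup.orderOf_coe]
    exact B.orderOf_dvd_natCard ha.2
  have hc : (Finset.univ.filter fun a : Q => (a : G) ∈ B).card = Nat.card B := by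
    rw [← Fintype.card_subtype, ← Nat.card_eq_fintype_card]
    exact Nat.card_congr (Subgroup.subgroupOfEquivOfLe hB).toEquiv
  have heq := Finset.eq_of_subset_of_card_le hsub (by omega)
  intro x hx
  have hmem : (⟨x, hA hx⟩ : Q) ∈ Finset.univ.filter fun a : Q => a ^ Nat.card B = 1 := by
    refine Finset.mem_filter.mpr ⟨Finset.mem_univ _, orderOf_dvd_iff_pow_eq_one.mp ?_⟩
    rw [← Subgroup.orderOf_coe]
    exact (A.orderOf_dvd_natCard hx).trans hd
  rw [← heq] at hmem
  exact (Finset.mem_filter.mp hmem).2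

/-- A `p'`-element normalizing a cyclic `p`-subgroup and fixing one of its nontrivial elements
centralizes it. -/
theorem commute_of_fixed [Finite G] [hp : Fact p.Prime] {Q : Subgroup G} (hQ : IsPGroup p Q)
    (hcyc : IsCyclic Q) {a : G} (ha : a ∈ Subgroup.normalizer (Q : Set G))
    (hac : ¬ p ∣ orderOf a) {x : G} (hx : x ∈ Q) (hx1 : x ≠ 1) (hfix : a * x * a⁻¹ = x) :
    ∀ y ∈ Q, a * y * a⁻¹ = y := by
  haveI := hcyc
  refine PPrimeAbelian.commute_of_fix_omega hQ ⟨⟨fun u v => (IsCyclic.commGroup (α := Q)).mul_comm u v⟩⟩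
    ha (hp.out.coprime_iff_not_dvd.mpr hac).symm fun z hz hzp => ?_
  obtain ⟨k, hk⟩ := IsPGroup.iff_orderOf.mp hQ ⟨x, hx⟩
  obtain ⟨k, rfl⟩ : ∃ j, k = j + 1 := ⟨k - 1, by
    rcases k with _ | k
    · rw [pow_zero, orderOf_eq_one_iff] at hk
      exact absurd (congrArg Subtype.val hk) hx1
    · omega⟩
  have hw : orderOf ((⟨x, hx⟩ : Q) ^ p ^ k) = p := by
    rw [orderOf_pow_of_dvd (pow_ne_zero _ hp.out.ne_zero) (by rw [hk]; exact Dvd.intro p rfl), hk,
      pow_succ, Nat.mul_div_cancel_left _ (pow_pos hp.out.pos _)]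
  have hw' : orderOf (x ^ p ^ k) = p := by
    rw [← Subgroup.orderOf_coe] at hw
    simpa using hw
  have hzd : orderOf z ∣ p := orderOf_dvd_of_pow_eq_one hzp
  obtain ⟨j, hj⟩ := Subgroup.mem_zpowers_iff.mp (le_of_card_dvd (A := Subgroup.zpowers z)
    (B := Subgroup.zpowers (x ^ p ^ k)) hcyc (Subgroup.zpowers_le.mpr hz)
    (Subgroup.zpowers_le.mpr (Q.pow_mem hx _))
    (by rw [Nat.card_zpowers, Nat.card_zpowers, hw']; exact hzd) (Subgroup.mem_zpowers z))
  rw [← hj, ← conj_zpow, ← conj_pow, hfix]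

theorem orderOf_eq_prime_pow [hp : Fact p.Prime] {Q : Subgroup G} (hQ : IsPGroup p Q) {x : G}
    (hx : x ∈ Q) : ∃ k : ℕ, orderOf x = p ^ k := by
  obtain ⟨k, hk⟩ := IsPGroup.iff_orderOf.mp hQ ⟨x, hx⟩
  exact ⟨k, by rw [← hk, ← Subgroup.orderOf_coe]⟩

theorem eq_one_of_mem_pgroup [hp : Fact p.Prime] {Q : Subgroup G} (hQ : IsPGroup p Q) {x : G}
    (hx : x ∈ Q) (hxc : ¬ p ∣ orderOf x) : x = 1 := by
  obtain ⟨k, hk⟩ := orderOf_eq_prime_pow hQ hx
  rcases k with _ | k
  · rw [pow_zero] at hk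
    exact orderOf_eq_one_iff.mp hk
  · exact absurd (hk ▸ dvd_pow_self p (Nat.succ_ne_zero k)) hxc

/-- A `p`-element normalizing a Sylow `p`-subgroup lies in it. -/
theorem mem_sylow_of_mem_normalizer [Finite G] [hp : Fact p.Prime] (P : Sylow p G) {x : G}
    (hx : x ∈ Subgroup.normalizer ((P : Subgroup G) : Set G)) (hk : ∃ k : ℕ, orderOf x = p ^ k) :
    x ∈ (P : Subgroup G) := by
  have hX : IsPGroup p (Subgroup.zpowers x) := Transfer.isPGroup_zpowers hk
  have h := IsPGroup.to_sup_of_normal_right' hX P.2 (Subgroup.zpowers_le.mpr hx)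
  have he := P.3 h le_sup_right
  exact he.le (Subgroup.mem_sup_left (Subgroup.mem_zpowers x))

/-- Unless Burnside's transfer applies, some `p'`-element normalizes a cyclic Sylow subgroup
without centralizing it. -/
theorem exists_prime_to_p [Finite G] [hp : Fact p.Prime] (P : Sylow p G)
    (hcyc : IsCyclic (P : Subgroup G)) (hn : ¬ Cfsg.HasNormalPComplement p G) :
    ∃ a ∈ Subgroup.normalizer ((P : Subgroup G) : Set G), ¬ p ∣ orderOf a ∧
      ∀ x ∈ (P : Subgroup G), x ≠ 1 → a * x * a⁻¹ ≠ x := by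
  by_contra hcon
  push Not at hcon
  refine hn (Transfer.hasNormalPComplement_of_normalizer_le_centralizer P fun n hnP => ?_)
  obtain ⟨b, a, hba, hb, ha, hbk, hac⟩ := PPrimeAbelian.exists_split hp.out n
  have hbP := mem_sylow_of_mem_normalizer P (Subgroup.zpowers_le.mpr hnP hb) hbk
  have haN : a ∈ Subgroup.normalizer ((P : Subgroup G) : Set G) := Subgroup.zpowers_le.mpr hnP ha
  have hac' : ¬ p ∣ orderOf a := hp.out.coprime_iff_not_dvd.mp hac.symm
  obtain ⟨x, hx, hx1, hfix⟩ := hcon a haN hac'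
  have hfa := commute_of_fixed P.2 hcyc haN hac' hx hx1 hfix
  refine Subgroup.mem_centralizer_iff.mpr fun y hy => ?_
  haveI := hcyc
  have hby : b * y = y * b := congrArg Subtype.val
    ((IsCyclic.commGroup (α := (P : Subgroup G))).mul_comm ⟨b, hbP⟩ ⟨y, hy⟩)
  have hay : a * y = y * a := mul_inv_eq_iff_eq_mul.mp (hfa y hy)
  rw [hba, mul_assoc, hay, ← mul_assoc b y, hby, mul_assoc]

/-- A normal `p'`-subgroup `R` with `G / R` good. -/
theorem good_of_coprime [Finite G] [hp : Fact p.Prime] (hc : Cyc p G) (h : Ab p G)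
    (R : Subgroup G) [R.Normal] (hR : ¬ p ∣ Nat.card R) (hQ : Good p (G ⧸ R)) : Good p G := by
  set f := QuotientGroup.mk' R
  have hf : Function.Surjective f := QuotientGroup.mk'_surjective R
  rcases hQ with hQ | hQ
  · left
    obtain ⟨P', N', hN', hc'⟩ := hQ
    haveI : (N'.comap f).Normal := hN'.comap f
    refine Transfer.hasNormalPComplement_of_le_of_isPGroup_quotient (N'.comap f) ?_ ?_
    · rw [PSolvable.card_comap_of_surjective hf, QuotientGroup.ker_mk']
      exact ((hp.out.coprime_iff_not_dvd.mpr hR).symm).mul_left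
        (Transfer.coprime_card_of_isComplement' hc')
    · obtain ⟨k, hk⟩ := P'.2.exists_card_eq
      refine IsPGroup.of_card (n := k) ?_
      rw [← Subgroup.index_eq_card, Subgroup.index_comap_of_surjective _ hf,
        hc'.symm.index_eq_card, hk]
  by_cases hn : Cfsg.HasNormalPComplement p G
  · exact Or.inl hn
  refine Or.inr fun P => ?_
  obtain ⟨a, haN, hac, hfree⟩ := exists_prime_to_p P (hc P) hn
  -- `[x, a]` centralizes `R`, and these commutators exhaust `P`
  have hRa : ∀ r ∈ R, a * r = r * a := by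
    intro r hr
    refine comm_of_ab h (H := R ⊔ Subgroup.zpowers a) ?_ (Subgroup.mem_sup_right
      (Subgroup.mem_zpowers a)) (Subgroup.mem_sup_left hr)
    refine hp.out.coprime_iff_not_dvd.mp (Transfer.coprime_card_sup_of_normal inferInstance
      (hp.out.coprime_iff_not_dvd.mpr hR).symm ?_).symm
    rw [Nat.card_zpowers]
    exact (hp.out.coprime_iff_not_dvd.mpr hac).symm
  haveI := hc P
  have hcomm : ∀ x y : G, x ∈ (P : Subgroup G) → y ∈ (P : Subgroup G) → x * y = y * x :=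
    fun x y hx hy => congrArg Subtype.val
      ((IsCyclic.commGroup (α := (P : Subgroup G))).mul_comm ⟨x, hx⟩ ⟨y, hy⟩)
  have hPc : ∀ z ∈ (P : Subgroup G), ∀ r ∈ R, z * r = r * z := by
    let φ : ↥(P : Subgroup G) → ↥(P : Subgroup G) := fun x => ⟨x * (a * (x : G)⁻¹ * a⁻¹),
      Subgroup.mul_mem _ x.2 ((Subgroup.mem_normalizer_iff.mp haN _).mp (Subgroup.inv_mem _ x.2))⟩
    have hinj : Function.Injective φ := by
      intro x y he
      have e : (x : G) * (a * (x : G)⁻¹ * a⁻¹) = y * (a * (y : G)⁻¹ * a⁻¹) :=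
        congrArg Subtype.val he
      have hw : (y : G)⁻¹ * x ∈ (P : Subgroup G) := Subgroup.mul_mem _ (Subgroup.inv_mem _ y.2) x.2
      by_contra hne
      refine hfree _ hw (fun e1 => hne (Subtype.ext (inv_mul_eq_one.mp e1).symm)) ?_
      have e2 : (y : G)⁻¹ * x = (a * (y : G)⁻¹ * a⁻¹) * (a * (x : G) * a⁻¹) := by
        calc (y : G)⁻¹ * x = (y : G)⁻¹ * (x * (a * (x : G)⁻¹ * a⁻¹)) * (a * x * a⁻¹) := by group
          _ = _ := by rw [e]; group
      conv_rhs => rw [e2]
      group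
    intro z hz r hr
    obtain ⟨x, hx⟩ := (Finite.injective_iff_surjective.mp hinj) ⟨z, hz⟩
    have e : z = (x : G) * (a * (x : G)⁻¹ * a⁻¹) := (congrArg Subtype.val hx).symm
    have h1 : (x : G)⁻¹ * r * x ∈ R := by
      simpa using (inferInstance : R.Normal).conj_mem r hr (x : G)⁻¹
    have h2 : a⁻¹ * r * a = r := by rw [mul_assoc, ← hRa r hr, inv_mul_cancel_left]
    rw [← mul_inv_eq_iff_eq_mul, e]
    calc (x : G) * (a * (x : G)⁻¹ * a⁻¹) * r * (x * (a * (x : G)⁻¹ * a⁻¹))⁻¹
        = x * (a * ((x : G)⁻¹ * (a⁻¹ * r * a) * x) * a⁻¹) * (x : G)⁻¹ := by group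
      _ = x * ((x : G)⁻¹ * r * x) * (x : G)⁻¹ := by
          rw [h2, mul_inv_eq_iff_eq_mul.mpr (hRa _ h1)]
      _ = r := by group
  refine ⟨fun x hx g => ?_⟩
  have hgx : f (g * x * g⁻¹) ∈ ((P.mapSurjective hf : Sylow p (G ⧸ R)) : Subgroup (G ⧸ R)) := by
    rw [map_mul, map_mul, map_inv]
    exact (hQ (P.mapSurjective hf)).conj_mem (f x) (Subgroup.mem_map_of_mem f hx) (f g)
  obtain ⟨y, hy, hye⟩ := hgx
  have hz : y⁻¹ * (g * x * g⁻¹) ∈ R := by
    rw [← QuotientGroup.eq_one_iff]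
    show f _ = 1
    rw [map_mul, map_inv, hye, inv_mul_cancel]
  -- `g x g⁻¹ = y * r` with commuting factors of coprime orders
  obtain ⟨k, hk⟩ := orderOf_eq_prime_pow P.2 hx
  have hpe : (g * x * g⁻¹) ^ p ^ k = 1 := by rw [conj_pow, ← hk, pow_orderOf_eq_one]; group
  obtain ⟨l, hl⟩ := orderOf_eq_prime_pow P.2 hy
  have hcy : Commute y⁻¹ (g * x * g⁻¹) := by
    have := hPc y hy _ hz
    show y⁻¹ * (g * x * g⁻¹) = g * x * g⁻¹ * y⁻¹
    calc y⁻¹ * (g * x * g⁻¹) = (y * (y⁻¹ * (g * x * g⁻¹))) * y⁻¹ * 1 := by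
          rw [this]; group
      _ = _ := by group
  have h1 : (y⁻¹ * (g * x * g⁻¹)) ^ (p ^ k * p ^ l) = 1 := by
    rw [hcy.mul_pow, pow_mul (g * x * g⁻¹), hpe, one_pow, mul_one, inv_pow, mul_comm, pow_mul,
      ← hl, pow_orderOf_eq_one, one_pow, inv_one]
  have h2 : y⁻¹ * (g * x * g⁻¹) = 1 := by
    have hd := Nat.dvd_gcd (R.orderOf_dvd_natCard hz) (orderOf_dvd_of_pow_eq_one h1)
    rw [← pow_add, ((hp.out.coprime_iff_not_dvd.mpr hR).symm.pow_right _).gcd_eq_one,
      Nat.dvd_one, orderOf_eq_one_iff] at hd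
    exact hd
  rw [← inv_mul_eq_one.mp h2]
  exact hy

/-- A normal `p`-subgroup `R` with `G / R` good. -/
theorem good_of_isPGroup [Finite G] [hp : Fact p.Prime] (hc : Cyc p G)
    (R : Subgroup G) [R.Normal] (hR : IsPGroup p R) (hQ : Good p (G ⧸ R)) : Good p G := by
  set f := QuotientGroup.mk' R
  have hf : Function.Surjective f := QuotientGroup.mk'_surjective R
  rcases hQ with hQ | hQ
  swap
  · refine Or.inr fun P => ?_
    have hRP : R ≤ (P : Subgroup G) := (hR.le_sylow_of_normal P)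
    have := (hQ (P.mapSurjective hf)).comap f
    rwa [Sylow.coe_mapSurjective, Subgroup.comap_map_eq, QuotientGroup.ker_mk',
      sup_eq_left.mpr hRP] at this
  obtain ⟨P', N', hN', hc'⟩ := hQ
  set M := N'.comap f
  haveI : M.Normal := hN'.comap f
  have hRM : R ≤ M := fun r hr => by
    show f r ∈ N'
    rw [show f r = 1 from (QuotientGroup.eq_one_iff r).mpr hr]
    exact one_mem _
  have hMcard : Nat.card M = Nat.card R * Nat.card N' := by
    rw [PSolvable.card_comap_of_surjective hf, QuotientGroup.ker_mk']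
  have hN'c := Transfer.coprime_card_of_isComplement' hc'
  obtain ⟨i, hi⟩ := IsPGroup.iff_card.mp hR
  obtain ⟨k, hk⟩ := P'.2.exists_card_eq
  have hMidx : M.index = p ^ k := by
    rw [Subgroup.index_comap_of_surjective _ hf, hc'.symm.index_eq_card, hk]
  by_cases hcen : ∀ m ∈ M, ∀ r ∈ R, m * r = r * m
  · left
    have hRs : IsPGroup p (R.subgroupOf M) := hR.comap_of_injective _ M.subtype_injective
    have hidx : ¬ p ∣ (R.subgroupOf M).index := by
      have h1 := (R.subgroupOf M).card_mul_index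
      rw [Nat.card_congr (Subgroup.subgroupOfEquivOfLe hRM).toEquiv, hMcard] at h1
      rw [Nat.eq_of_mul_eq_mul_left Nat.card_pos h1]
      exact hp.out.coprime_iff_not_dvd.mp hN'c.symm
    obtain ⟨S, A, hA, hAc⟩ := Transfer.hasNormalPComplement_of_normalizer_le_centralizer
      (hRs.toSylow hidx) (fun m _ => Subgroup.mem_centralizer_iff.mpr fun r hr =>
        Subtype.ext ((hcen m m.2 r hr).symm))
    haveI := hA
    have hAr : Cfsg.HasNormalPComplement p M := ⟨S, A, hA, hAc⟩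
    haveI := PSolvable.normal_map_of_characteristic M (Cfsg.pPrimeCore p M)
    refine Transfer.hasNormalPComplement_of_le_of_isPGroup_quotient
      ((Cfsg.pPrimeCore p M).map M.subtype) ?_ ?_
    · rw [Subgroup.card_map_of_injective M.subtype_injective]
      exact Transfer.pPrimeCore_coprime p
    · haveI := Transfer.pResidual_normal p M
      obtain ⟨j, hj⟩ := (Transfer.isPGroup_quotient_pResidual (G := M) (p := p)).exists_card_eq
      refine IsPGroup.of_card (n := j + k) ?_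
      rw [← Subgroup.index_eq_card, Subgroup.index_map_subtype, Transfer.pPrimeCore_eq_pResidual hAr,
        Subgroup.index_eq_card, hj, hMidx, pow_add]
  refine Or.inr fun P => ?_
  -- some Sylow subgroup `Q` of `M` does not centralize `R`
  obtain ⟨q, hq, Q, hQR⟩ : ∃ q : ℕ, q.Prime ∧ ∃ Q : Sylow q M, q ≠ p ∧
      ∃ m ∈ (Q : Subgroup M), ∃ r ∈ R, (m : G) * r ≠ r * m := by
    by_contra hno
    push Not at hno
    refine hcen fun m hm r hr => ?_
    let C : Subgroup M := (Subgroup.centralizer (R : Set G)).subgroupOf M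
    suffices hC : C = ⊤ by
      have : (⟨m, hm⟩ : M) ∈ C := hC ▸ Subgroup.mem_top _
      exact (Subgroup.mem_centralizer_iff.mp this r hr).symm
    rw [← Subgroup.index_eq_one]
    by_contra hne
    obtain ⟨q, hq, hqd⟩ := Nat.exists_prime_and_dvd hne
    haveI := Fact.mk hq
    obtain ⟨Q⟩ := (inferInstance : Nonempty (Sylow q M))
    refine Q.not_dvd_index (hqd.trans (Subgroup.index_dvd_of_le fun m hm => ?_))
    refine Subgroup.mem_centralizer_iff.mpr fun r hr => ?_
    by_cases hqp : q = p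
    · subst hqp
      obtain ⟨P₀, hP₀⟩ := (Q.2.map M.subtype).exists_le_sylow
      haveI := hc P₀
      exact congrArg Subtype.val ((IsCyclic.commGroup (α := (P₀ : Subgroup G))).mul_comm
        ⟨r, hR.le_sylow_of_normal P₀ hr⟩ ⟨(m : G), hP₀ ⟨m, hm, rfl⟩⟩)
    · exact (hno q hq Q hqp m hm r hr).symm
  obtain ⟨hqp, m, hm, r, hr, hne⟩ := hQR
  haveI := Fact.mk hq
  set Q₀ : Subgroup G := (Q : Subgroup M).map M.subtype with hQ₀
  have hsup : Subgroup.normalizer (Q₀ : Set G) ⊔ M = ⊤ := by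
    have := Sylow.normalizer_sup_eq_top Q
    rwa [← hQ₀] at this
  set N := Subgroup.normalizer (Q₀ : Set G) with hN
  obtain ⟨S⟩ := (inferInstance : Nonempty (Sylow p N))
  set S₀ : Subgroup G := (S : Subgroup N).map N.subtype with hS₀
  obtain ⟨P₁, hP₁⟩ := (S.2.map N.subtype).exists_le_sylow
  have hRP₁ : R ≤ (P₁ : Subgroup G) := hR.le_sylow_of_normal P₁
  obtain ⟨n, hn⟩ := IsPGroup.iff_card.mp (S.2.map N.subtype)
  rcases le_total i n with hle | hle
  · exfalso
    have hRN : r ∈ N := Subgroup.map_subtype_le _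
      (le_of_card_dvd (hc P₁) hRP₁ hP₁ (by rw [hi, hn]; exact pow_dvd_pow p hle) hr)
    refine hne ?_
    have hQR : ((m : G) * r * (m : G)⁻¹ * r⁻¹) ∈ Q₀ ⊓ R := by
      refine ⟨?_, R.mul_mem ((inferInstance : R.Normal).conj_mem r hr _) (R.inv_mem hr)⟩
      rw [show (m : G) * r * (m : G)⁻¹ * r⁻¹ = m * (r * (m : G)⁻¹ * r⁻¹) by group]
      exact Q₀.mul_mem ⟨m, hm, rfl⟩ ((Subgroup.mem_normalizer_iff.mp hRN _).mp
        (Q₀.inv_mem ⟨m, hm, rfl⟩))
    have h1 : (m : G) * r * (m : G)⁻¹ * r⁻¹ = 1 := by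
      obtain ⟨j, hj⟩ := orderOf_eq_prime_pow (p := q) (Q.2.map M.subtype) hQR.1
      refine eq_one_of_mem_pgroup hR hQR.2 fun hd => ?_
      rw [hj] at hd
      exact hqp ((Nat.prime_dvd_prime_iff_eq hp.out hq).mp (hp.out.dvd_of_dvd_pow hd)).symm
    rwa [mul_inv_eq_one, mul_inv_eq_iff_eq_mul] at h1
  have hSM : (S : Subgroup N) ≤ M.subgroupOf N := fun x hx => hRM
    (le_of_card_dvd (hc P₁) hP₁ hRP₁ (by rw [hi, hn]; exact pow_dvd_pow p hle) ⟨x, hx, rfl⟩)
  have hk0 : k = 0 := by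
    by_contra hk0
    refine S.not_dvd_index (dvd_trans ?_ (Subgroup.index_dvd_of_le hSM))
    rw [← Subgroup.relIndex, ← Subgroup.relIndex_sup_right, hsup, Subgroup.relIndex_top_right, hMidx]
    exact dvd_pow_self p hk0
  have hPR : R = (P : Subgroup G) := by
    refine Subgroup.eq_of_le_of_card_ge (hR.le_sylow_of_normal P) ?_
    have h1 := M.card_mul_index
    rw [hMidx, hk0, pow_zero, mul_one, hMcard] at h1
    rw [P.card_eq_multiplicity, ← h1, Nat.factorization_mul Nat.card_pos.ne' Nat.card_pos.ne',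
      Finsupp.add_apply, hi, hp.out.factorization_pow, Finsupp.single_eq_same,
      Nat.factorization_eq_zero_of_not_dvd (hp.out.coprime_iff_not_dvd.mp hN'c.symm), add_zero]
  rw [← hPR]
  infer_instance

/-- Reduction to groups with trivial `O_p` and `O_{p'}` and good proper normal subgroups. -/
theorem core_ne_bot [Finite G] [hp : Fact p.Prime] {N : Subgroup G} [N.Normal] (hN : N ≠ ⊥)
    (hg : Good p N) : Cfsg.pCore p G ≠ ⊥ ∨ Cfsg.pPrimeCore p G ≠ ⊥ := by
  by_contra hcon
  push Not at hcon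
  obtain ⟨h1, h2⟩ := hcon
  have e1 : Cfsg.pCore p N = ⊥ := by
    have := PSolvable.map_pCore_le (p := p) N
    rwa [h1, le_bot_iff, Subgroup.map_eq_bot_iff_of_injective _ N.subtype_injective] at this
  have e2 : Cfsg.pPrimeCore p N = ⊥ := by
    have := PSolvable.map_pPrimeCore_le (p := p) N
    rwa [h2, le_bot_iff, Subgroup.map_eq_bot_iff_of_injective _ N.subtype_injective] at this
  refine hN ?_
  rcases hg with hg | hg
  · haveI := Transfer.pResidual_normal p N
    have hq := Transfer.isPGroup_quotient_pResidual (G := N) (p := p)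
    obtain ⟨j, hj⟩ := hq.exists_card_eq
    rw [← Subgroup.index_eq_card, ← Transfer.pPrimeCore_eq_pResidual hg, e2,
      Subgroup.index_bot] at hj
    exact le_bot_iff.mp (h1 ▸ Fitting.le_pCore inferInstance (IsPGroup.of_card hj))
  · obtain ⟨P⟩ := (inferInstance : Nonempty (Sylow p N))
    have hP : (P : Subgroup N) = ⊥ := le_bot_iff.mp (e1 ▸ Fitting.le_pCore (hg P) P.2)
    refine le_bot_iff.mp (h2 ▸ Transfer.le_pPrimeCore inferInstance ?_)
    refine (hp.out.coprime_iff_not_dvd.mpr fun hd => ?_).symm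
    exact (P.ne_bot_of_dvd_card hd) hP

end CfsgLib.CycAb
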