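import Cfsg.Agent.Lib.CyclicSylow.AbelianSimple
import Cfsg.Agent.Lib.PPrimeAbelian.Setup
import Cfsg.Agent.Lib.Invol.Dihedral

/-!
# No nontrivial `p'`-element centralizes a nontrivial `p`-element: a counting contradiction

For an involution `u` the involutions outside `C(u)` correspond to the nontrivial `p`-elements
inverted by `u`; modulo `p` this contradicts the free action of a `p`-element on a Sylow
2-subgroup.
-/

set_option autoImplicit false
set_option linter.style.haveILetI false
set_option linter.unusedSectionVars false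

namespace CfsgLib.CycAb

variable {G : Type*} [Group G] [Finite G] {p : ℕ} [hp : Fact p.Prime]

/-- No `p'`-element other than `1` commutes with a nontrivial element of a Sylow `p`-subgroup. -/
def Free (p : ℕ) (G : Type*) [Group G] : Prop :=
  ∀ (P : Sylow p G), ∀ x ∈ (P : Subgroup G), x ≠ 1 → ∀ z : G, ¬ p ∣ orderOf z → z * x = x * z → z = 1

theorem not_dvd_two (hh : Hyp p G) {u : G} (hu : orderOf u = 2) : ¬ p ∣ orderOf u := by
  rw [hu]
  exact fun h => hh.ne_two ((Nat.prime_dvd_prime_iff_eq hp.out Nat.prime_two).mp h)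

theorem centralizer_coprime (hh : Hyp p G) (hF : Free p G) {z : G} (hz : ¬ p ∣ orderOf z)
    (hz1 : z ≠ 1) : ¬ p ∣ Nat.card (Subgroup.centralizer ({z} : Set G)) := by
  intro hd
  obtain ⟨x, hx⟩ := exists_prime_orderOf_dvd_card' (G := Subgroup.centralizer ({z} : Set G)) p hd
  rw [← Subgroup.orderOf_coe] at hx
  obtain ⟨P, hP⟩ := hh.exists_sylow (x := (x : G)) ⟨1, by rw [hx, pow_one]⟩
  exact hz1 (hF P _ hP (fun e => hp.out.ne_one (hx.symm.trans (by rw [e, orderOf_one]))) z hz
    (Subgroup.mem_centralizer_singleton_iff.mp x.2).symm)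

/-- An involution normalizing a Sylow `p`-subgroup inverts it. -/
theorem inverts (hh : Hyp p G) (hF : Free p G) {u : G} (hu : orderOf u = 2) (P : Sylow p G)
    (huN : u ∈ Subgroup.normalizer ((P : Subgroup G) : Set G)) {x : G}
    (hx : x ∈ (P : Subgroup G)) : u * x * u = x⁻¹ := by
  have huu := Invol.mul_self_of_orderOf_two hu
  have hux : u * x * u ∈ (P : Subgroup G) := by
    have := (Subgroup.mem_normalizer_iff.mp huN x).mp hx
    rwa [Invol.inv_of_orderOf_two hu] at this
  by_contra hne
  have hw1 : x * (u * x * u) ≠ 1 := fun e => hne (eq_inv_of_mul_eq_one_right e)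
  refine Invol.ne_one_of_orderOf_two hu
    (hF P (x * (u * x * u)) (Subgroup.mul_mem _ hx hux) hw1 u (not_dvd_two hh hu) ?_)
  calc u * (x * (u * x * u)) = (u * x * u) * x * (u) := by simp only [mul_assoc]
    _ = x * (u * x * u) * u := by rw [hh.commute_sylow P hux hx]

/-- The involutions of `N(P)` are conjugate by elements of `P`. -/
theorem conj_involution (hh : Hyp p G) (hF : Free p G) (P : Sylow p G) {u h : G}
    (hu : orderOf u = 2) (huN : u ∈ Subgroup.normalizer ((P : Subgroup G) : Set G))
    (hh' : orderOf h = 2) (hhN : h ∈ Subgroup.normalizer ((P : Subgroup G) : Set G)) :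
    ∃ v ∈ (P : Subgroup G), v * u * v⁻¹ = h := by
  have huu := Invol.mul_self_of_orderOf_two hu
  have hcomm : ∀ x ∈ (P : Subgroup G), h * u * x = x * (h * u) := fun x hx => by
    have h1 := inverts hh hF hu P huN hx
    have h2 := inverts hh hF hh' P hhN (Subgroup.inv_mem _ hx)
    rw [inv_inv] at h2
    have h3 : u * x = x⁻¹ * u := by rw [← h1, mul_assoc (u * x), huu, mul_one]
    have h4 : h * x⁻¹ = x * h := by
      calc h * x⁻¹ = h * x⁻¹ * h * h := by
            rw [mul_assoc (h * x⁻¹), Invol.mul_self_of_orderOf_two hh', mul_one]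
        _ = x * h := by rw [h2]
    rw [mul_assoc, h3, ← mul_assoc, h4, mul_assoc]
  obtain ⟨x, hx, hx1⟩ : ∃ x ∈ (P : Subgroup G), x ≠ 1 := by
    by_contra hcon
    push Not at hcon
    exact hh.sylow_ne_bot P ((Subgroup.eq_bot_iff_forall _).mpr hcon)
  obtain ⟨a, b, hab, ha, hb, hak, hbc⟩ := PPrimeAbelian.exists_split hp.out (h * u)
  have hb1 : b = 1 := by
    refine hF P x hx hx1 b (hp.out.coprime_iff_not_dvd.mp hbc.symm) ?_
    obtain ⟨j, rfl⟩ := Subgroup.mem_zpowers_iff.mp hb
    exact ((show Commute (h * u) x from hcomm x hx).zpow_left j).eq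
  have hwP : h * u ∈ (P : Subgroup G) := by
    rw [hb1, mul_one] at hab
    exact mem_sylow_of_mem_normalizer P (Subgroup.mul_mem _ hhN huN) (hab ▸ hak)
  obtain ⟨m, hm⟩ := hh.odd_of_pgroup (orderOf_eq_prime_pow P.2 hwP)
  refine ⟨(h * u) ^ (m + 1), Subgroup.pow_mem _ hwP _, ?_⟩
  have hv := Subgroup.pow_mem _ hwP (m + 1)
  set v := (h * u) ^ (m + 1) with hv'
  have h1 := inverts hh hF hu P huN (Subgroup.inv_mem _ hv)
  rw [inv_inv] at h1
  have h2 : v * v = h * u := by
    rw [hv', ← pow_add, show m + 1 + (m + 1) = orderOf (h * u) + 1 by omega, pow_succ,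
      pow_orderOf_eq_one, one_mul]
  calc v * u * v⁻¹ = v * (u * v⁻¹ * u) * u := by
        simp only [mul_assoc, huu, mul_one]
    _ = h := by rw [h1, h2, mul_assoc, huu, mul_one]

theorem caseOne (hh : Hyp p G) (hF : Free p G) : False := by
  classical
  haveI := Fact.mk Nat.prime_two
  obtain ⟨u₀, hu₀⟩ := hh.exists_involution
  obtain ⟨S, hS⟩ := (Transfer.isPGroup_zpowers (p := 2) (x := u₀) ⟨1, by rw [hu₀, pow_one]⟩).exists_le_sylow
  have huS : u₀ ∈ (S : Subgroup G) := hS (Subgroup.mem_zpowers _)
  have hSc : ¬ p ∣ Nat.card (S : Subgroup G) := by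
    obtain ⟨k, hk⟩ := S.2.exists_card_eq
    rw [hk]
    exact fun h => hh.ne_two ((Nat.prime_dvd_prime_iff_eq hp.out Nat.prime_two).mp
      (hp.out.dvd_of_dvd_pow h))
  set u := u₀ with huDef
  have hu : orderOf u = 2 := hu₀
  have huu := Invol.mul_self_of_orderOf_two hu
  set K := Subgroup.centralizer ({u} : Set G) with hKdef
  have hKc : ¬ p ∣ Nat.card K := centralizer_coprime hh hF (not_dvd_two hh hu)
    (Invol.ne_one_of_orderOf_two hu)
  have hSK : (S : Subgroup G) ≤ K := fun x hx =>
    Subgroup.mem_centralizer_singleton_iff.mpr (comm_of_ab hh.ab hSc hx huS)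
  have huK : u ∈ K := hSK huS
  have hinvS : ∀ v ∈ K, orderOf v = 2 → v ∈ (S : Subgroup G) := by
    intro v hv hv2
    refine mem_sylow_of_mem_normalizer S ?_ ⟨1, by rw [hv2, pow_one]⟩
    refine Subgroup.centralizer_le_normalizer _ (Subgroup.mem_centralizer_iff.mpr fun s hs => ?_)
    exact (comm_of_ab hh.ab hKc hv (hSK hs)).symm
  -- a `p`-element acting freely on the involutions of `S`
  obtain ⟨y, hyN, hyk, hy1⟩ : ∃ y ∈ Subgroup.normalizer ((S : Subgroup G) : Set G),
      (∃ k : ℕ, orderOf y = p ^ k) ∧ y ≠ 1 := by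
    by_contra hcon
    push Not at hcon
    obtain ⟨T, N, hN, hc⟩ := Transfer.hasNormalPComplement_of_normalizer_le_centralizer S
      fun n hn => by
        obtain ⟨a, b, hab, ha, hb, hak, hbc⟩ := PPrimeAbelian.exists_split hp.out n
        have ha1 : a = 1 := by
          by_contra ha1
          obtain ⟨k, hk⟩ := hak
          exact ha1 (hcon a (Subgroup.zpowers_le.mpr hn ha) ⟨k, hk⟩)
        refine Subgroup.mem_centralizer_iff.mpr fun x hx => ?_
        rw [hab, ha1, one_mul]
        exact comm_of_ab hh.ab (hp.out.coprime_iff_not_dvd.mp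
          (PPrimeAbelian.coprime_card_sup (Subgroup.zpowers_le.mpr (Subgroup.zpowers_le.mpr hn hb))
            (hp.out.coprime_iff_not_dvd.mpr hSc).symm (by rwa [Nat.card_zpowers])).symm)
          (Subgroup.mem_sup_left hx) (Subgroup.mem_sup_right (Subgroup.mem_zpowers b))
    haveI := hN
    rcases hh.eq_bot_or_eq_top N with rfl | rfl
    · have hTtop : (T : Subgroup G) = ⊤ := Subgroup.isComplement'_bot_left.mp hc
      have hcard : Nat.card G = 2 ^ (Nat.card G).factorization 2 := by
        conv_lhs => rw [← Subgroup.card_top (G := G), ← hTtop, Sylow.card_eq_multiplicity]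
      obtain ⟨P⟩ := (inferInstance : Nonempty (Sylow p G))
      obtain ⟨j, hj⟩ := P.2.exists_card_eq
      have hd := (P : Subgroup G).card_subgroup_dvd_card
      rw [hj, hcard] at hd
      have hj0 : j = 0 := Nat.eq_zero_of_not_pos fun hpos =>
        hh.ne_two ((Nat.prime_dvd_prime_iff_eq hp.out Nat.prime_two).mp
          (hp.out.dvd_of_dvd_pow ((dvd_pow_self p hpos.ne').trans hd)))
      exact hh.sylow_ne_bot P (Subgroup.card_eq_one.mp (by rw [hj, hj0, pow_zero]))
    · have hTbot : (T : Subgroup G) = ⊥ := Subgroup.isComplement'_top_left.mp hc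
      have h2 : 2 ∣ Nat.card (T : Subgroup G) := by
        rw [Sylow.card_eq_multiplicity, ← S.card_eq_multiplicity]
        exact (dvd_of_eq hu.symm).trans ((S : Subgroup G).orderOf_dvd_natCard huS)
      rw [hTbot, Subgroup.card_bot] at h2
      omega
  have hn : p ∣ Nat.card {v : G // orderOf v = 2 ∧ v ∈ (S : Subgroup G)} := by
    let V := {v : G // orderOf v = 2 ∧ v ∈ (S : Subgroup G)}
    letI : MulAction (Subgroup.zpowers y) V :=
      { smul := fun g v => ⟨(g : G) * v * (g : G)⁻¹, Invol.conj_orderOf_two v.2.1 _,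
          (Subgroup.mem_normalizer_iff.mp (Subgroup.zpowers_le.mpr hyN g.2) _).mp v.2.2⟩
        one_smul := fun v => Subtype.ext (by
          show ((1 : Subgroup.zpowers y) : G) * v * ((1 : Subgroup.zpowers y) : G)⁻¹ = v
          simp)
        mul_smul := fun g g' v => Subtype.ext (by
          show ((g * g' : Subgroup.zpowers y) : G) * v * ((g * g' : Subgroup.zpowers y) : G)⁻¹ =
            (g : G) * ((g' : G) * v * (g' : G)⁻¹) * (g : G)⁻¹
          rw [Subgroup.coe_mul]; group) }
    have h := (Transfer.isPGroup_zpowers (p := p) hyk).card_modEq_card_fixedPoints V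
    have h0 : MulAction.fixedPoints (Subgroup.zpowers y) V = ∅ := by
      refine Set.eq_empty_of_forall_notMem fun v hv => ?_
      have e : y * (v : G) * y⁻¹ = v :=
        congrArg Subtype.val (hv ⟨y, Subgroup.mem_zpowers y⟩)
      obtain ⟨P, hP⟩ := hh.exists_sylow hyk
      exact Invol.ne_one_of_orderOf_two v.2.1 (hF P y hP hy1 (v : G) (not_dvd_two hh v.2.1)
        (mul_inv_eq_iff_eq_mul.mp e).symm)
    rw [h0] at h
    rw [show Nat.card (∅ : Set V) = 0 by simp] at h
    exact Nat.modEq_zero_iff_dvd.mp h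
  -- involutions outside `K`
  have hout : ∀ v : G, orderOf v = 2 → v ∉ K → ∃ k : ℕ, orderOf (u * v) = p ^ k := by
    intro v hv hvK
    obtain ⟨a, b, hab, ha, hb, hak, hbc⟩ := PPrimeAbelian.exists_split hp.out (u * v)
    have hbc' : ¬ p ∣ orderOf b := hp.out.coprime_iff_not_dvd.mp hbc.symm
    suffices hb1 : b = 1 by rw [hab, hb1, mul_one]; exact hak
    by_contra hb1
    obtain ⟨j, hj⟩ := Subgroup.mem_zpowers_iff.mp hb
    have hbu : u * b * u⁻¹ = b⁻¹ := by
      rw [← hj, ← conj_zpow, Invol.conj_prod hu hv, inv_zpow]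
    have hbN : u ∈ Subgroup.normalizer (Subgroup.zpowers b : Set G) := by
      rw [← Transfer.map_conj_eq_self_iff, MonoidHom.map_zpowers]
      simp [hbu]
    have hub : u * b = b * u := comm_of_ab hh.ab (H := Subgroup.zpowers b ⊔ Subgroup.zpowers u)
      (hp.out.coprime_iff_not_dvd.mp (PPrimeAbelian.coprime_card_sup (Subgroup.zpowers_le.mpr hbN)
        (by rwa [Nat.card_zpowers]) (by
          rw [Nat.card_zpowers]
          exact (hp.out.coprime_iff_not_dvd.mpr (not_dvd_two hh hu)).symm)).symm)
      (Subgroup.mem_sup_right (Subgroup.mem_zpowers u))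
      (Subgroup.mem_sup_left (Subgroup.mem_zpowers b))
    have hvb : v * b = b * v := by
      have h1 : Commute (u * v) b := by
        rw [← hj]; exact Commute.zpow_right rfl j
      have h2 : Commute u b := hub
      have h3 := (h2.inv_left).mul_left h1
      rwa [inv_mul_cancel_left] at h3
    exact hvK (Subgroup.mem_centralizer_singleton_iff.mpr (comm_of_ab hh.ab
      (centralizer_coprime hh hF hbc' hb1) (Subgroup.mem_centralizer_singleton_iff.mpr hvb)
      (Subgroup.mem_centralizer_singleton_iff.mpr hub)))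
  have hconj : ∀ v : G, orderOf v = 2 → v ∉ K → IsConj u v := fun v hv hvK =>
    Invol.isConj_of_odd hu hv (hh.odd_of_pgroup (hout v hv hvK))
  have hex : ∃ w : G, orderOf w = 2 ∧ w ∉ K := by
    by_contra hcon
    push Not at hcon
    have hle : Subgroup.normalClosure ({u} : Set G) ≤ K := by
      refine (Subgroup.closure_le _).mpr fun z hz => ?_
      obtain ⟨x, hx, hxz⟩ := Group.mem_conjugatesOfSet_iff.mp hz
      rw [Set.mem_singleton_iff] at hx
      subst hx
      obtain ⟨g, rfl⟩ := isConj_iff.mp hxz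
      exact hcon _ (Invol.conj_orderOf_two hu g)
    rcases hh.eq_bot_or_eq_top (Subgroup.normalClosure ({u} : Set G)) with h | h
    · exact Invol.ne_one_of_orderOf_two hu (Subgroup.mem_bot.mp
        (h ▸ Subgroup.subset_normalClosure (Set.mem_singleton u)))
    · exact hh.centralizer_ne_top (Invol.ne_one_of_orderOf_two hu) (top_le_iff.mp (h ▸ hle))
  have hall : ∀ v : G, orderOf v = 2 → IsConj u v := by
    intro v hv
    by_cases hvK : v ∈ K
    · obtain ⟨w, hw, hwK⟩ := hex
      by_cases hcv : Commute w v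
      · refine absurd ?_ hwK
        exact Subgroup.mem_centralizer_singleton_iff.mpr (comm_of_ab hh.ab
          (centralizer_coprime hh hF (not_dvd_two hh hv) (Invol.ne_one_of_orderOf_two hv))
          (Subgroup.mem_centralizer_singleton_iff.mpr hcv)
          (Subgroup.mem_centralizer_singleton_iff.mpr
            (Subgroup.mem_centralizer_singleton_iff.mp hvK).symm))
      · obtain ⟨a, b, hab, ha, hb, hak, hbc⟩ := PPrimeAbelian.exists_split hp.out (v * w)
        suffices hb1 : b = 1 by
          refine (hconj w hw hwK).trans (Invol.isConj_of_odd hw hv ?_)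
          have h1 : orderOf (w * v) = orderOf (v * w) := by
            rw [← orderOf_inv (v * w), mul_inv_rev, Invol.inv_of_orderOf_two hv,
              Invol.inv_of_orderOf_two hw]
          rw [h1, hab, hb1, mul_one]
          exact hh.odd_of_pgroup hak
        by_contra hb1
        have hbc' : ¬ p ∣ orderOf b := hp.out.coprime_iff_not_dvd.mp hbc.symm
        obtain ⟨j, hj⟩ := Subgroup.mem_zpowers_iff.mp hb
        have hbv : v * b * v⁻¹ = b⁻¹ := by
          rw [← hj, ← conj_zpow, Invol.conj_prod hv hw, inv_zpow]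
        have hbN : v ∈ Subgroup.normalizer (Subgroup.zpowers b : Set G) := by
          rw [← Transfer.map_conj_eq_self_iff, MonoidHom.map_zpowers]
          simp [hbv]
        have hvb : v * b = b * v := comm_of_ab hh.ab (H := Subgroup.zpowers b ⊔ Subgroup.zpowers v)
          (hp.out.coprime_iff_not_dvd.mp (PPrimeAbelian.coprime_card_sup
            (Subgroup.zpowers_le.mpr hbN) (by rwa [Nat.card_zpowers]) (by
              rw [Nat.card_zpowers]
              exact (hp.out.coprime_iff_not_dvd.mpr (not_dvd_two hh hv)).symm)).symm)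
          (Subgroup.mem_sup_right (Subgroup.mem_zpowers v))
          (Subgroup.mem_sup_left (Subgroup.mem_zpowers b))
        have hwb : w * b = b * w := by
          have h1 : Commute (v * w) b := by rw [← hj]; exact Commute.zpow_right rfl j
          have hc : Commute v b := hvb
          have h3 := hc.inv_left.mul_left h1
          rwa [inv_mul_cancel_left] at h3
        exact hcv (comm_of_ab hh.ab (centralizer_coprime hh hF hbc' hb1)
          (Subgroup.mem_centralizer_singleton_iff.mpr hwb)
          (Subgroup.mem_centralizer_singleton_iff.mpr hvb))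
    · exact hconj v hv hvK
  -- the number of involutions
  have hI : p ∣ Nat.card {v : G // orderOf v = 2} := by
    have e : Nat.card {v : G // orderOf v = 2} = Nat.card {v : G // IsConj u v} :=
      Nat.card_congr (Equiv.subtypeEquivRight fun v => ⟨hall v, fun h => by
        obtain ⟨g, rfl⟩ := isConj_iff.mp h
        exact Invol.conj_orderOf_two hu g⟩)
    rw [e]
    refine (hp.out.dvd_mul.mp ?_).resolve_right hKc
    rw [Invol.card_isConj_mul_card_centralizer]
    obtain ⟨P⟩ := (inferInstance : Nonempty (Sylow p G))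
    by_contra hd
    refine hh.sylow_ne_bot P (Subgroup.card_eq_one.mp ?_)
    rw [P.card_eq_multiplicity, Nat.factorization_eq_zero_of_not_dvd hd, pow_zero]
  -- Sylow subgroups inverted by `u`
  let T := {P : Sylow p G // u ∈ Subgroup.normalizer ((P : Subgroup G) : Set G)}
  let X := Σ P : T, {x : ↥((P : Sylow p G) : Subgroup G) // x ≠ 1}
  let φ : X → {v : G // orderOf v = 2 ∧ v ∉ K} := fun z =>
    ⟨u * (z.2.1 : G), by
      have hi := inverts hh hF hu z.1.1 z.1.2 z.2.1.2
      have hne : (z.2.1 : G) ≠ 1 := fun e => z.2.2 (Subtype.ext e)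
      refine ⟨Invol.orderOf_two_of_mul_self ?_ fun e => ?_, fun hm => ?_⟩
      · rw [← mul_assoc, hi, inv_mul_cancel]
      · have := hh.odd_of_pgroup (orderOf_eq_prime_pow z.1.1.2 z.2.1.2)
        rw [← inv_eq_of_mul_eq_one_right e, Invol.inv_of_orderOf_two hu, hu] at this
        exact absurd this (by decide)
      · have h1 := Subgroup.mem_centralizer_singleton_iff.mp hm
        have h2 : (z.2.1 : G) * u = u * z.2.1 := by
          rwa [mul_assoc, mul_left_cancel_iff] at h1
        rw [mul_assoc, h2, ← mul_assoc, huu, one_mul] at hi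
        exact hne (Invol.eq_one_of_odd_of_sq
          (hh.odd_of_pgroup (orderOf_eq_prime_pow z.1.1.2 z.2.1.2))
          (by nth_rewrite 2 [hi]; exact mul_inv_cancel _))⟩
  have hφ : Function.Bijective φ := by
    refine ⟨?_, ?_⟩
    · rintro ⟨⟨P, hP⟩, ⟨x, hx⟩, hx1⟩ ⟨⟨P', hP'⟩, ⟨x', hx'⟩, hx'1⟩ he
      have e : u * x = u * x' := congrArg Subtype.val he
      obtain rfl := mul_left_cancel e
      obtain rfl := hh.sylow_eq P P' hx hx' fun e1 => hx1 (Subtype.ext e1)
      rfl
    · rintro ⟨v, hv, hvK⟩
      obtain ⟨P, hP⟩ := hh.exists_sylow (hout v hv hvK)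
      have h1 : u * v ≠ 1 := fun e => hvK (by
        rw [← inv_eq_of_mul_eq_one_right e, Invol.inv_of_orderOf_two hu]; exact huK)
      have huP : u ∈ Subgroup.normalizer ((P : Subgroup G) : Set G) := by
        refine Sylow.smul_eq_iff_mem_normalizer.mp (hh.sylow_eq (u • P) P (x := (u * v)⁻¹) ?_
          (Subgroup.inv_mem _ hP) (fun e => h1 (inv_eq_one.mp e)))
        rw [Transfer.mem_smul_sylow, mul_inv_rev, Invol.inv_of_orderOf_two hv,
          Invol.inv_of_orderOf_two hu]
        simp only [← mul_assoc]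
        rwa [mul_assoc (u * v) u u, huu, mul_one]
      refine ⟨⟨⟨P, huP⟩, ⟨u * v, hP⟩, fun e => h1 (congrArg Subtype.val e)⟩, Subtype.ext ?_⟩
      show u * (u * v) = v
      rw [← mul_assoc, huu, one_mul]
  -- `C(u)` is transitive on these Sylow subgroups
  have hT : ¬ p ∣ Nat.card T := by
    rcases isEmpty_or_nonempty T with hTe | ⟨⟨P₁, hP₁⟩⟩
    · exfalso
      obtain ⟨w, hw, hwK⟩ := hex
      obtain ⟨z, -⟩ := hφ.2 ⟨w, hw, hwK⟩
      exact hTe.false z.1
    have hmem : ∀ k : K, u ∈ Subgroup.normalizer ((((k : G) • P₁ : Sylow p G)) : Set G) := by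
      intro k
      refine Sylow.smul_eq_iff_mem_normalizer.mp ?_
      rw [← mul_smul, ← Subgroup.mem_centralizer_singleton_iff.mp k.2, mul_smul,
        Sylow.smul_eq_iff_mem_normalizer.mpr hP₁]
    have e : Nat.card T = Nat.card (MulAction.orbit K P₁) := by
      refine Nat.card_congr (Equiv.subtypeEquivRight fun P => ⟨fun hP => ?_, ?_⟩)
      · obtain ⟨g, hg⟩ := MulAction.exists_smul_eq G P₁ P
        subst hg
        have hug : g⁻¹ * u * g ∈ Subgroup.normalizer ((P₁ : Subgroup G) : Set G) := by
          refine Sylow.smul_eq_iff_mem_normalizer.mp ?_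
          rw [mul_smul, mul_smul, Sylow.smul_eq_iff_mem_normalizer.mpr hP, inv_smul_smul]
        obtain ⟨m, hm, hme⟩ := conj_involution hh hF P₁ hu hP₁
          (h := g⁻¹ * u * g) (by
            rw [show g⁻¹ * u * g = g⁻¹ * u * g⁻¹⁻¹ by rw [inv_inv]]
            exact Invol.conj_orderOf_two hu _) hug
        refine ⟨⟨g * m, Subgroup.mem_centralizer_singleton_iff.mpr ?_⟩, ?_⟩
        · calc g * m * u = g * (m * u * m⁻¹) * m := by group
            _ = u * (g * m) := by rw [hme]; group
        · show (g * m) • P₁ = g • P₁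
          rw [mul_smul, Sylow.smul_eq_iff_mem_normalizer.mpr (Subgroup.le_normalizer hm)]
      · rintro ⟨k, rfl⟩
        exact hmem k
    rw [e]
    intro hd
    refine hKc (hd.trans ?_)
    rw [Nat.card_coe_set_eq, ← MulAction.index_stabilizer K P₁]
    exact Subgroup.index_dvd_card _
  have hcard : Nat.card {v : G // orderOf v = 2} =
      Nat.card {v : G // orderOf v = 2 ∧ v ∈ (S : Subgroup G)} + Nat.card X := by
    rw [Nat.card_congr (Equiv.ofBijective φ hφ)]
    rw [← Nat.card_sum]
    refine Nat.card_congr ?_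
    calc {v : G // orderOf v = 2}
        ≃ {x : {v : G // orderOf v = 2} // (x : G) ∈ K} ⊕
          {x : {v : G // orderOf v = 2} // (x : G) ∉ K} := (Equiv.sumCompl _).symm
      _ ≃ _ := Equiv.sumCongr
          ((Equiv.subtypeSubtypeEquivSubtypeInter _ _).trans (Equiv.subtypeEquivRight fun v =>
            ⟨fun h => ⟨h.1, hinvS v h.2 h.1⟩, fun h => ⟨h.1, hSK h.2⟩⟩))
          (Equiv.subtypeSubtypeEquivSubtypeInter (fun v : G => orderOf v = 2) (fun v => v ∉ K))
  obtain ⟨P₀⟩ := (inferInstance : Nonempty (Sylow p G))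
  obtain ⟨j, hj⟩ := P₀.2.exists_card_eq
  have hX : Nat.card X = Nat.card T * (p ^ j - 1) := by
    haveI := Fintype.ofFinite T
    show Nat.card (Σ P : T, {x : ↥((P : Sylow p G) : Subgroup G) // x ≠ 1}) = _
    rw [Nat.card_sigma, Finset.sum_congr rfl (g := fun _ => p ^ j - 1) fun P _ => ?_,
      Finset.sum_const, smul_eq_mul, Nat.card_eq_fintype_card, Finset.card_univ]
    rw [← hj, show Nat.card (P₀ : Subgroup G) = Nat.card ((P : Sylow p G) : Subgroup G) by
      rw [Sylow.card_eq_multiplicity, Sylow.card_eq_multiplicity]]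
    haveI := Fintype.ofFinite ↥((P : Sylow p G) : Subgroup G)
    simp [Nat.card_eq_fintype_card, Fintype.card_subtype_compl]
  have hd : p ∣ Nat.card X := (Nat.dvd_add_right hn).mp (hcard ▸ hI)
  rw [hX] at hd
  rcases hp.out.dvd_mul.mp hd with h | h
  · exact hT h
  · have hj0 : j ≠ 0 := fun h0 => hh.sylow_ne_bot P₀ (Subgroup.card_eq_one.mp (by
      rw [hj, h0, pow_zero]))
    have h1 : p ∣ p ^ j := dvd_pow_self p hj0
    have h2 := Nat.dvd_sub h1 h
    rw [Nat.sub_sub_self (Nat.one_le_pow _ _ hp.out.pos)] at h2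
    exact hp.out.ne_one (Nat.dvd_one.mp h2)

end CfsgLib.CycAb
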