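import Cfsg.Agent.Lib.CyclicSylow.AbelianSimple
import Cfsg.Agent.Lib.PPrimeAbelian.Setup
import Cfsg.Agent.Lib.BSW.Main

/-!
# A nontrivial `p'`-element centralizes a Sylow `p`-subgroup: Brauer–Suzuki–Wall

The centralizer of such an element forces `p = 3`, a Klein four Sylow 2-subgroup with one class
of involutions and an involution centralizer `(P × 2) : 2`.
-/

set_option autoImplicit false
set_option linter.style.haveILetI false
set_option linter.unusedSectionVars false

namespace CfsgLib.CycAb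

variable {G : Type*} [Group G] [Finite G] {p : ℕ} [hp : Fact p.Prime]

theorem Hyp.normalizer_normalizer (hh : Hyp p G) (P : Sylow p G) {n : G}
    (hn : ∀ g, g ∈ Subgroup.normalizer ((P : Subgroup G) : Set G) →
      n * g * n⁻¹ ∈ Subgroup.normalizer ((P : Subgroup G) : Set G)) :
    n ∈ Subgroup.normalizer ((P : Subgroup G) : Set G) := by
  rw [← Transfer.map_conj_eq_self_iff]
  refine Subgroup.eq_of_le_of_card_ge ?_ (le_of_eq
    (Subgroup.card_map_of_injective (MulAut.conj n).injective).symm)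
  rintro _ ⟨x, hx, rfl⟩
  refine mem_sylow_of_mem_normalizer P (hn x (Subgroup.le_normalizer hx)) ?_
  obtain ⟨k, hk⟩ := orderOf_eq_prime_pow P.2 hx
  exact ⟨k, by rw [← hk]; exact Transfer.orderOf_conj n x⟩

/-- A nontrivial `p'`-element centralizing `P` has no conjugate of this kind except by `N(P)`. -/
theorem Hyp.conj_central (hh : Hyp p G) (P : Sylow p G) {b n : G}
    (hb : ∀ y ∈ (P : Subgroup G), b * y = y * b) (hbc : ¬ p ∣ orderOf b) (hb1 : b ≠ 1)
    (hb' : ∀ y ∈ (P : Subgroup G), n * b * n⁻¹ * y = y * (n * b * n⁻¹)) :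
    n ∈ Subgroup.normalizer ((P : Subgroup G) : Set G) := by
  refine hh.normalizer_normalizer P fun g hg => ?_
  have hne : n * b * n⁻¹ ≠ 1 := fun e => hb1 (conj_eq_one_iff.mp e)
  have hoc : ¬ p ∣ orderOf (n * b * n⁻¹) := by rwa [Transfer.orderOf_conj]
  rw [← hh.centralizer_central P hb' hoc hne, Subgroup.mem_centralizer_singleton_iff]
  rw [← hh.centralizer_central P hb hbc hb1, Subgroup.mem_centralizer_singleton_iff] at hg
  calc n * g * n⁻¹ * (n * b * n⁻¹) = n * (g * b) * n⁻¹ := by group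
    _ = _ := by rw [hg]; group

theorem Hyp.mem_hall (hh : Hyp p G) (P : Sylow p G) {A : Subgroup G}
    (hAN : A ≤ Subgroup.normalizer ((P : Subgroup G) : Set G)) (hAc : ¬ p ∣ Nat.card A)
    (hA : ∀ h ∈ Subgroup.normalizer ((P : Subgroup G) : Set G),
      ∃ y ∈ (P : Subgroup G), ∃ a ∈ A, h = y * a) {b : G}
    (hb : ∀ y ∈ (P : Subgroup G), b * y = y * b) (hbc : ¬ p ∣ orderOf b) : b ∈ A := by
  have hbN : b ∈ Subgroup.normalizer ((P : Subgroup G) : Set G) :=
    Subgroup.centralizer_le_normalizer _ (Subgroup.mem_centralizer_iff.mpr fun y hy => (hb y hy).symm)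
  obtain ⟨y, hy, a, ha, e⟩ := hA b hbN
  have hab : Commute b a⁻¹ :=
    ((show Commute a b from hh.commute_central P hb hbc (hAN ha)).inv_left).symm
  have hac : ¬ p ∣ orderOf a := fun hd => hAc (hd.trans (A.orderOf_dvd_natCard ha))
  have hy1 : y = 1 := by
    refine eq_one_of_mem_pgroup P.2 hy fun hd => ?_
    rw [show y = b * a⁻¹ by rw [e, mul_inv_cancel_right]] at hd
    have := hd.trans hab.orderOf_mul_dvd_mul_orderOf
    rw [orderOf_inv] at this
    exact (hp.out.dvd_mul.mp this).elim hbc hac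
  rw [e, hy1, one_mul]
  exact ha

theorem Hyp.normalizer_le_normalizer (hh : Hyp p G) (P : Sylow p G) {Q : Subgroup G}
    (hQ : Q ≤ (P : Subgroup G)) :
    Subgroup.normalizer ((P : Subgroup G) : Set G) ≤ Subgroup.normalizer (Q : Set G) := by
  intro g hg
  rw [← Transfer.map_conj_eq_self_iff] at hg ⊢
  have hle : Q.map (MulAut.conj g).toMonoidHom ≤ (P : Subgroup G) := hg ▸ Subgroup.map_mono hQ
  have hc : Nat.card (Q.map (MulAut.conj g).toMonoidHom) = Nat.card Q :=
    Subgroup.card_map_of_injective (MulAut.conj g).injective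
  exact le_antisymm (le_of_card_dvd (hh.cyc P) hle hQ hc.dvd)
    (le_of_card_dvd (hh.cyc P) hQ hle hc.symm.dvd)

theorem card_range_le_of_pow {V M : Type*} [Group V] [Finite V] [Group M] [Finite M] [IsCyclic M]
    {q : ℕ} (hq : 0 < q) (hV : ∀ v : V, v ^ q = 1) (f : V →* M) : Nat.card f.range ≤ q := by
  classical
  haveI := Fintype.ofFinite M
  refine le_trans ?_ (IsCyclic.card_pow_eq_one_le (α := M) hq)
  rw [Nat.card_eq_fintype_card, Fintype.card_subtype]
  refine Finset.card_le_card fun m hm => ?_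
  rw [Finset.mem_filter] at hm ⊢
  obtain ⟨v, rfl⟩ := hm.2
  exact ⟨Finset.mem_univ _, by rw [← map_pow, hV, map_one]⟩

theorem caseTwo (hh : Hyp p G) (P : Sylow p G) {b : G}
    (hb : ∀ y ∈ (P : Subgroup G), b * y = y * b) (hbc : ¬ p ∣ orderOf b) (hb1 : b ≠ 1) :
    False := by
  classical
  set H := Subgroup.normalizer ((P : Subgroup G) : Set G) with hHdef
  -- an element of prime order
  obtain ⟨q, hq, hqd⟩ := Nat.exists_prime_and_dvd (n := orderOf b) (by rwa [Ne, orderOf_eq_one_iff])
  haveI := Fact.mk hq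
  set u := b ^ (orderOf b / q) with hudef
  have hu : orderOf u = q := orderOf_pow_orderOf_div (orderOf_pos b).ne' hqd
  have hqp : q ≠ p := fun e => hbc (e ▸ hqd)
  have huc : ¬ p ∣ orderOf u := by
    rw [hu]; exact fun h => hqp ((Nat.prime_dvd_prime_iff_eq hp.out hq).mp h).symm
  have hu1 : u ≠ 1 := fun e => hq.ne_one (by rw [← hu, e, orderOf_one])
  have huP : ∀ y ∈ (P : Subgroup G), u * y = y * u := fun y hy =>
    (Commute.pow_left (hb y hy : Commute b y) _).eq
  have hCu : Subgroup.centralizer ({u} : Set G) = H := hh.centralizer_central P huP huc hu1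
  obtain ⟨A, hAN, hAc, hHcard, hA⟩ := hh.exists_hall P
  have hmem : ∀ w : G, (∀ y ∈ (P : Subgroup G), w * y = y * w) → ¬ p ∣ orderOf w → w ∈ A :=
    fun w h1 h2 => hh.mem_hall P hAN hAc hA h1 h2
  have hAord : ∀ a ∈ A, ¬ p ∣ orderOf a := fun a ha hd => hAc (hd.trans (A.orderOf_dvd_natCard ha))
  have huA : u ∈ A := hmem u huP huc
  have hAcomm : ∀ a ∈ A, ∀ c ∈ A, a * c = c * a := fun a ha c hc => comm_of_ab hh.ab hAc ha hc
  -- the Sylow `q`-subgroup
  obtain ⟨Q₀, hQ₀⟩ := (Transfer.isPGroup_zpowers (p := q) (x := (⟨u, huA⟩ : A))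
    ⟨1, by rw [← Subgroup.orderOf_coe, pow_one]; exact hu⟩).exists_le_sylow
  obtain ⟨Q, hQ⟩ := (Q₀.2.map A.subtype).exists_le_sylow
  have huQ : u ∈ (Q : Subgroup G) := hQ ⟨_, hQ₀ (Subgroup.mem_zpowers _), rfl⟩
  have hQc : ¬ p ∣ Nat.card (Q : Subgroup G) := by
    obtain ⟨k, hk⟩ := Q.2.exists_card_eq
    rw [hk]
    exact fun h => hqp ((Nat.prime_dvd_prime_iff_eq hp.out hq).mp (hp.out.dvd_of_dvd_pow h)).symm
  have hQH : (Q : Subgroup G) ≤ H := fun x hx =>
    hCu ▸ Subgroup.mem_centralizer_singleton_iff.mpr (comm_of_ab hh.ab hQc hx huQ)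
  have hQeq : (Q₀ : Subgroup A).map A.subtype = (Q : Subgroup G) := by
    refine Subgroup.eq_of_le_of_card_ge hQ ?_
    rw [Subgroup.card_map_of_injective A.subtype_injective, Q₀.card_eq_multiplicity]
    obtain ⟨k, hk⟩ := Q.2.exists_card_eq
    have h1 : Nat.card (Q : Subgroup G) ∣ Nat.card A := by
      have h2 := Subgroup.card_dvd_of_le hQH
      rw [hHcard] at h2
      obtain ⟨j, hj⟩ := P.2.exists_card_eq
      refine (Nat.Coprime.dvd_mul_left ?_).mp h2
      rw [hk, hj]
      exact Nat.coprime_pow_primes _ _ hq hp.out hqp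
    rw [hk] at h1 ⊢
    exact Nat.pow_le_pow_right hq.pos ((hq.pow_dvd_iff_le_factorization Nat.card_pos.ne').mp h1)
  have hQA : (Q : Subgroup G) ≤ A := hQeq ▸ Subgroup.map_subtype_le _
  have hQtrans : ¬ Subgroup.normalizer ((Q : Subgroup G) : Set G) ≤
      Subgroup.centralizer ((Q : Subgroup G) : Set G) := by
    intro hle
    obtain ⟨T, N, hN, hc⟩ := Transfer.hasNormalPComplement_of_normalizer_le_centralizer Q hle
    haveI := hN
    rcases hh.eq_bot_or_eq_top N with rfl | rfl
    · have hT : (T : Subgroup G) = ⊤ := Subgroup.isComplement'_bot_left.mp hc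
      obtain ⟨j, hj⟩ := P.2.exists_card_eq
      have hd := (P : Subgroup G).card_subgroup_dvd_card
      rw [hj, ← Subgroup.card_top (G := G), ← hT, Sylow.card_eq_multiplicity] at hd
      rcases j with _ | j
      · exact hh.sylow_ne_bot P (Subgroup.card_eq_one.mp (by rw [hj, pow_zero]))
      · exact hqp ((Nat.prime_dvd_prime_iff_eq hp.out hq).mp
          (hp.out.dvd_of_dvd_pow ((dvd_pow_self p (Nat.succ_ne_zero j)).trans hd))).symm
    · have hT : (T : Subgroup G) = ⊥ := Subgroup.isComplement'_top_left.mp hc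
      have h2 : Nat.card (T : Subgroup G) = Nat.card (Q : Subgroup G) := by
        rw [Sylow.card_eq_multiplicity, Q.card_eq_multiplicity]
      rw [hT, Subgroup.card_bot] at h2
      have h3 := (Q : Subgroup G).orderOf_dvd_natCard huQ
      rw [hu, ← h2] at h3
      exact hq.not_dvd_one h3
  have hCQ : Subgroup.centralizer ((Q : Subgroup G) : Set G) = A := by
    refine le_antisymm (fun c hc => ?_) fun a ha =>
      Subgroup.mem_centralizer_iff.mpr fun x hx => hAcomm x (hQA hx) a ha
    have hcH : c ∈ H := hCu ▸ Subgroup.mem_centralizer_singleton_iff.mpr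
      (Subgroup.mem_centralizer_iff.mp hc u huQ).symm
    obtain ⟨y, hy, a, ha, e⟩ := hA c hcH
    by_contra hcA
    have hy1 : y ≠ 1 := fun h1 => hcA (by rw [e, h1, one_mul]; exact ha)
    have hQP : ∀ x ∈ (Q : Subgroup G), ∀ z ∈ (P : Subgroup G), x * z = z * x := by
      intro x hx
      refine hh.commute_prime_to_p P (hQH hx) (hAord x (hQA hx)) hy hy1 ?_
      have h1 : x * (y * a) = y * a * x := e ▸ Subgroup.mem_centralizer_iff.mp hc x hx
      rw [mul_assoc y a x, hAcomm a ha x (hQA hx), ← mul_assoc, ← mul_assoc] at h1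
      exact mul_right_cancel h1
    have hle : H ≤ Subgroup.centralizer ((Q : Subgroup G) : Set G) := fun g hg =>
      Subgroup.mem_centralizer_iff.mpr fun x hx =>
        (hh.commute_central P (hQP x hx) (hAord x (hQA hx)) hg).symm
    refine hQtrans fun n hn => hle (hh.normalizer_normalizer P fun g hg => ?_)
    rw [← hHdef, ← hCu, Subgroup.mem_centralizer_singleton_iff]
    have hmem' : n⁻¹ * u * n ∈ (Q : Subgroup G) := by
      have := (Subgroup.mem_normalizer_iff''.mp hn u).mp huQ
      simpa using this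
    have h2 := (Subgroup.mem_centralizer_iff.mp (hle hg) _ hmem').symm
    calc n * g * n⁻¹ * u = n * (g * (n⁻¹ * u * n)) * n⁻¹ := by group
      _ = u * (n * g * n⁻¹) := by rw [h2]; group
  -- a `p`-element normalizing `Q` and acting nontrivially
  obtain ⟨y, hyN, hyk, hyC⟩ : ∃ y ∈ Subgroup.normalizer ((Q : Subgroup G) : Set G),
      (∃ k : ℕ, orderOf y = p ^ k) ∧ y ∉ Subgroup.centralizer ((Q : Subgroup G) : Set G) := by
    by_contra hcon
    push Not at hcon
    refine hQtrans fun n hn => ?_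
    obtain ⟨a, c, hac, ha, hc, ⟨k, hk⟩, hcc⟩ := PPrimeAbelian.exists_split hp.out n
    rw [hac]
    refine Subgroup.mul_mem _ (hcon a (Subgroup.zpowers_le.mpr hn ha) ⟨k, hk⟩) ?_
    refine Subgroup.mem_centralizer_iff.mpr fun x hx => ?_
    exact comm_of_ab hh.ab (hp.out.coprime_iff_not_dvd.mp
      (PPrimeAbelian.coprime_card_sup (Subgroup.zpowers_le.mpr (Subgroup.zpowers_le.mpr hn hc))
        (hp.out.coprime_iff_not_dvd.mpr hQc).symm (by rwa [Nat.card_zpowers])).symm)
      (Subgroup.mem_sup_left hx) (Subgroup.mem_sup_right (Subgroup.mem_zpowers c))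
  have hyH : y ∉ H := by
    intro hy
    refine hyC (Subgroup.mem_centralizer_iff.mpr fun x hx => ?_)
    have hyP := mem_sylow_of_mem_normalizer P hy hyk
    have h1 : x * y * x⁻¹ * y⁻¹ ∈ (P : Subgroup G) :=
      Subgroup.mul_mem _ ((Subgroup.mem_normalizer_iff.mp (hQH hx) y).mp hyP)
        (Subgroup.inv_mem _ hyP)
    have h2 : x * y * x⁻¹ * y⁻¹ ∈ (Q : Subgroup G) := by
      rw [show x * y * x⁻¹ * y⁻¹ = x * (y * x⁻¹ * y⁻¹) by group]
      exact Subgroup.mul_mem _ hx
        ((Subgroup.mem_normalizer_iff.mp hyN _).mp (Subgroup.inv_mem _ hx))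
    have h3 := eq_one_of_mem_pgroup P.2 h1 fun hd => hQc
      (hd.trans ((Q : Subgroup G).orderOf_dvd_natCard h2))
    rwa [mul_inv_eq_one, mul_inv_eq_iff_eq_mul] at h3
  have hAy : ∀ a ∈ A, y * a * y⁻¹ ∈ A := by
    intro a ha
    rw [← hCQ] at ha ⊢
    refine Subgroup.mem_centralizer_iff.mpr fun x hx => ?_
    have hx' : y⁻¹ * x * y ∈ (Q : Subgroup G) := by
      have := (Subgroup.mem_normalizer_iff''.mp hyN x).mp hx
      simpa using this
    calc x * (y * a * y⁻¹) = y * ((y⁻¹ * x * y) * a) * y⁻¹ := by group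
      _ = _ := by rw [Subgroup.mem_centralizer_iff.mp ha _ hx']; group
  -- the action on `X = Ω₁(P)`
  obtain ⟨x₀, hx₀P, hx₀⟩ : ∃ x ∈ (P : Subgroup G), orderOf x = p := by
    obtain ⟨j, hj⟩ := P.2.exists_card_eq
    have hj0 : j ≠ 0 := fun h0 => hh.sylow_ne_bot P (Subgroup.card_eq_one.mp (by
      rw [hj, h0, pow_zero]))
    obtain ⟨x, hx⟩ := exists_prime_orderOf_dvd_card' (G := (P : Subgroup G)) p
      (hj ▸ dvd_pow_self p hj0)
    exact ⟨x, x.2, by rw [Subgroup.orderOf_coe]; exact hx⟩
  set X := Subgroup.zpowers x₀ with hXdef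
  have hAX : A ≤ Subgroup.normalizer (X : Set G) :=
    hAN.trans (hh.normalizer_le_normalizer P (Subgroup.zpowers_le.mpr hx₀P))
  let χ : A →* MulAut X := X.normalizerMonoidHom.comp (Subgroup.inclusion hAX)
  have hχ : ∀ a : A, χ a = 1 ↔ ∀ z ∈ (P : Subgroup G), (a : G) * z = z * a := by
    intro a
    constructor
    · intro h
      have e : (a : G) * x₀ * (a : G)⁻¹ = x₀ :=
        congrArg Subtype.val (DFunLike.congr_fun h (⟨x₀, Subgroup.mem_zpowers x₀⟩ : X))
      exact hh.commute_prime_to_p P (hAN a.2) (hAord a a.2) hx₀P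
        (fun e1 => hp.out.ne_one (by rw [← hx₀, e1, orderOf_one])) (mul_inv_eq_iff_eq_mul.mp e)
    · intro h
      refine MulEquiv.ext fun z => Subtype.ext ?_
      show (a : G) * (z : G) * (a : G)⁻¹ = z
      rw [h z (Subgroup.zpowers_le.mpr hx₀P z.2), mul_inv_cancel_right]
  haveI : IsCyclic X := inferInstance
  have hXc : Nat.card X = p := by rw [Nat.card_zpowers, hx₀]
  haveI : Finite (MulAut X) := Finite.of_injective (fun f => (f : X → X)) DFunLike.coe_injective
  haveI : IsCyclic (MulAut X) := by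
    have e := IsCyclic.mulAutMulEquiv X
    rw [hXc] at e
    exact isCyclic_of_surjective e.symm.toMonoidHom e.symm.surjective
  have hM : Nat.card (MulAut X) = p - 1 := by
    rw [IsCyclic.card_mulAut, hXc, Nat.totient_prime hp.out]
  -- separation
  let cy : A →* A :=
    { toFun := fun a => ⟨y * a * y⁻¹, hAy a a.2⟩
      map_one' := Subtype.ext (by simp)
      map_mul' := fun a c => Subtype.ext (by
        show y * ((a * c : A) : G) * y⁻¹ = y * a * y⁻¹ * (y * c * y⁻¹)
        rw [Subgroup.coe_mul]; group) }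
  have hsep : ∀ a : A, χ a = 1 → χ (cy a) = 1 → a = 1 := by
    intro a h1 h2
    by_contra ha
    exact hyH (hh.conj_central P ((hχ a).mp h1) (hAord a a.2) (fun e => ha (Subtype.ext e))
      ((hχ (cy a)).mp h2))
  have hker : Nat.card χ.ker ≤ Nat.card (MulAut X) := by
    refine Nat.card_le_card_of_injective (fun a : χ.ker => χ (cy a)) fun a c h => ?_
    have h1 : χ (cy ((a : A) * (c : A)⁻¹)) = 1 := by
      rw [map_mul, map_mul, map_inv, map_inv, mul_inv_eq_one]
      exact h
    exact Subtype.ext (mul_inv_eq_one.mp (hsep _ (χ.ker.mul_mem a.2 (χ.ker.inv_mem c.2)) h1))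
  have huχ : χ ⟨u, huA⟩ = 1 := (hχ _).mpr huP
  have hcyu : χ (cy ⟨u, huA⟩) ≠ 1 := fun h => hu1 (congrArg Subtype.val (hsep _ huχ h))
  have hordu : orderOf (⟨u, huA⟩ : A) = q := by rw [← Subgroup.orderOf_coe]; exact hu
  have hqM : q ∣ p - 1 := by
    have hq1 : χ (cy ⟨u, huA⟩) ^ q = 1 := by
      rw [← map_pow, ← map_pow, ← hordu, pow_orderOf_eq_one, map_one, map_one]
    rw [← hM, ← orderOf_eq_prime hq1 hcyu]
    exact orderOf_dvd_natCard _
  -- elements of exponent `q`
  let V : Subgroup A :=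
    { carrier := {a | a ^ q = 1}
      one_mem' := one_pow q
      mul_mem' := fun {a c} ha hc => by
        have hc' : Commute a c := Subtype.ext (hAcomm a a.2 c c.2)
        show (a * c) ^ q = 1
        rw [hc'.mul_pow, (ha : a ^ q = 1), (hc : c ^ q = 1), one_mul]
      inv_mem' := fun {a} ha => by
        show a⁻¹ ^ q = 1
        rw [inv_pow, (ha : a ^ q = 1), inv_one] }
  have hVcard : Nat.card V ≤ q * q := by
    let ψ : V →* MulAut X := χ.comp V.subtype
    have h1 : Nat.card ψ.range ≤ q := card_range_le_of_pow hq.pos (fun v => Subtype.ext v.2) ψ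
    have h2 : Nat.card ψ.ker ≤ q := by
      have hi : Function.Injective
          ((χ.comp (cy.comp (V.subtype.comp ψ.ker.subtype))) : ψ.ker →* MulAut X) := by
        rw [injective_iff_map_eq_one]
        intro a ha
        exact Subtype.ext (Subtype.ext (hsep _ a.2 ha))
      refine le_trans (Nat.le_of_eq (Nat.card_congr (MonoidHom.ofInjective hi).toEquiv)) ?_
      exact card_range_le_of_pow hq.pos (fun v => Subtype.ext (Subtype.ext v.1.2)) _
    rw [← ψ.ker.card_mul_index, Subgroup.index_ker]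
    exact Nat.mul_le_mul h2 h1
  have hnot : ∀ d : ℕ, 0 < d → d < p → y ^ d ∉ H := by
    intro d hd hdp hdH
    refine hyH (Subgroup.zpowers_le.mpr hdH ?_)
    obtain ⟨k, hk⟩ := hyk
    obtain ⟨m, hm⟩ := exists_pow_eq_self_of_coprime (x := y) (n := d) (by
      rw [hk]
      exact ((hp.out.coprime_iff_not_dvd.mpr fun h => absurd (Nat.le_of_dvd hd h) (by omega)).pow_left
        k).symm)
    exact Subgroup.mem_zpowers_iff.mpr ⟨(m : ℤ), by rw [zpow_natCast]; exact hm⟩
  have hupow : ∀ j : ℕ, ∀ z ∈ (P : Subgroup G), u ^ j * z = z * u ^ j := fun j z hz =>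
    (Commute.pow_left (huP z hz : Commute u z) j).eq
  have hcyI : ∀ (i : ℕ) (a : A), ((cy^[i] a : A) : G) = y ^ i * a * (y ^ i)⁻¹ := by
    intro i a
    induction i with
    | zero => simp
    | succ i ih =>
      rw [Function.iterate_succ_apply']
      show y * ((cy^[i] a : A) : G) * y⁻¹ = _
      rw [ih, pow_succ']; group
  let F : Fin p × Fin (q - 1) → {v : V // v ≠ 1} := fun ij =>
    ⟨⟨cy^[(ij.1 : ℕ)] (⟨u, huA⟩ ^ ((ij.2 : ℕ) + 1)), by
      show (cy^[(ij.1 : ℕ)] (⟨u, huA⟩ ^ ((ij.2 : ℕ) + 1))) ^ q = 1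
      refine Subtype.ext ?_
      rw [Subgroup.coe_pow, hcyI, conj_pow, Subgroup.coe_pow, ← pow_mul, mul_comm, pow_mul,
        show (((⟨u, huA⟩ : A) : G)) = u from rfl, orderOf_dvd_iff_pow_eq_one.mp hu.dvd, one_pow, mul_one,
        mul_inv_cancel]
      rfl⟩, fun e => by
      have e' : y ^ (ij.1 : ℕ) * u ^ ((ij.2 : ℕ) + 1) * (y ^ (ij.1 : ℕ))⁻¹ = 1 := by
        rw [show u ^ ((ij.2 : ℕ) + 1) = ((⟨u, huA⟩ ^ ((ij.2 : ℕ) + 1) : A) : G) by
          rw [Subgroup.coe_pow], ← hcyI]
        exact congrArg (fun v : V => ((v : A) : G)) e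
      rw [conj_eq_one_iff, ← orderOf_dvd_iff_pow_eq_one, hu] at e'
      have := Nat.le_of_dvd (Nat.succ_pos _) e'
      have := ij.2.2
      omega⟩
  have hF : Function.Injective F := by
    rintro ⟨i, j⟩ ⟨i', j'⟩ he
    have e : y ^ (i : ℕ) * u ^ ((j : ℕ) + 1) * (y ^ (i : ℕ))⁻¹ =
        y ^ (i' : ℕ) * u ^ ((j' : ℕ) + 1) * (y ^ (i' : ℕ))⁻¹ := by
      have := congrArg (fun v : {v : V // v ≠ 1} => (((v : V) : A) : G)) he
      simpa [F, hcyI] using this
    have aux : ∀ (a c : ℕ) (j j' : ℕ), a < c → c < p → j + 1 < q →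
        y ^ c * u ^ (j + 1) * (y ^ c)⁻¹ = y ^ a * u ^ (j' + 1) * (y ^ a)⁻¹ → False := by
      intro a c j j' hac hcp hjq h
      obtain ⟨d, rfl⟩ := Nat.exists_eq_add_of_le hac.le
      have h' : y ^ d * u ^ (j + 1) * (y ^ d)⁻¹ = u ^ (j' + 1) := by
        rw [pow_add] at h
        calc y ^ d * u ^ (j + 1) * (y ^ d)⁻¹
            = (y ^ a)⁻¹ * (y ^ a * y ^ d * u ^ (j + 1) * (y ^ a * y ^ d)⁻¹) * y ^ a := by group
          _ = _ := by rw [h]; group
      refine hnot d (by omega) (by omega) (hh.conj_central P (hupow (j + 1)) ?_ ?_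
        (fun z hz => by rw [h']; exact hupow _ z hz))
      · exact fun hd => huc (hd.trans (orderOf_pow_dvd _))
      · rw [Ne, ← orderOf_dvd_iff_pow_eq_one, hu]
        exact fun hd => absurd (Nat.le_of_dvd (Nat.succ_pos _) hd) (by omega)
    have hj := j.2
    have hj' := j'.2
    rcases lt_trichotomy (i : ℕ) i' with hlt | heq | hlt
    · exact (aux _ _ _ _ hlt i'.2 (by omega) e.symm).elim
    · obtain rfl := Fin.ext heq
      have h1 : u ^ ((j : ℕ) + 1) = u ^ ((j' : ℕ) + 1) := mul_left_cancel (mul_right_cancel e)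
      have h2 : (j : ℕ) + 1 = (j' : ℕ) + 1 :=
        pow_injOn_Iio_orderOf (show (j : ℕ) + 1 < orderOf u by omega)
          (show (j' : ℕ) + 1 < orderOf u by omega) h1
      rw [show j = j' from Fin.ext (by omega)]
    · exact (aux _ _ _ _ hlt i.2 (by omega) e).elim
  have hcount : p * (q - 1) + 1 ≤ q * q := by
    have h1 := Nat.card_le_card_of_injective F hF
    haveI := Fintype.ofFinite V
    rw [Nat.card_prod, Nat.card_fin, Nat.card_fin, Nat.card_eq_fintype_card,
      Fintype.card_subtype_compl, Fintype.card_subtype_eq] at h1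
    rw [Nat.card_eq_fintype_card] at hVcard
    have := Fintype.card_pos (α := V)
    omega
  have hp2 := hh.ne_two
  have h2q := hq.two_le
  have hle := Nat.le_of_dvd (by have := hp.out.two_le; omega) hqM
  have hpq : p ≤ q + 1 := by
    obtain ⟨m, rfl⟩ : ∃ m, q = m + 1 := ⟨q - 1, by omega⟩
    have h1 : p * m ≤ (m + 2) * m := by
      rw [Nat.add_sub_cancel] at hcount
      have : (m + 1) * (m + 1) = (m + 2) * m + 1 := by ring
      omega
    exact Nat.le_of_mul_le_mul_right h1 (by omega)
  have hq2 : q = 2 := by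
    rcases hq.eq_two_or_odd' with h | h
    · exact h
    · exfalso
      obtain ⟨m, hm⟩ := h
      exact hp2 ((hp.out.eq_two_or_odd').resolve_right (by
        rw [show p = q + 1 by omega]; exact Nat.not_odd_iff_even.mpr ⟨m + 1, by omega⟩))
  obtain rfl : p = 3 := by omega
  subst hq2
  -- `A` is a Klein four Sylow 2-subgroup
  have hMone : ∀ f : MulAut X, f ^ 2 = 1 := fun f => by
    rw [show (2 : ℕ) = Nat.card (MulAut X) by rw [hM]]
    exact pow_card_eq_one'
  have hker_eq : ∀ a : A, χ a = 1 → a = 1 ∨ a = ⟨u, huA⟩ := by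
    intro a ha
    by_contra hne
    push Not at hne
    have h3 : ({1, ⟨u, huA⟩, a} : Finset A).card = 3 :=
      Finset.card_eq_three.mpr ⟨1, ⟨u, huA⟩, a, fun e => hu1 (congrArg Subtype.val e).symm,
        fun e => hne.1 e.symm, fun e => hne.2 e.symm, rfl⟩
    haveI := Fintype.ofFinite χ.ker
    haveI := Fintype.ofFinite A
    have hsub : ({1, ⟨u, huA⟩, a} : Finset A) ⊆ Finset.univ.filter fun c => c ∈ χ.ker := by
      intro c hc
      simp only [Finset.mem_insert, Finset.mem_singleton] at hc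
      refine Finset.mem_filter.mpr ⟨Finset.mem_univ _, ?_⟩
      rcases hc with rfl | rfl | rfl
      exacts [χ.ker.one_mem, huχ, ha]
    have h4 := Finset.card_le_card hsub
    rw [h3, ← Fintype.card_subtype, ← Nat.card_eq_fintype_card] at h4
    rw [hM] at hker
    omega
  have hsq : ∀ a : A, a ^ 2 = 1 := by
    intro a
    have h1 : χ (a ^ 2) = 1 := by rw [map_pow]; exact hMone _
    rcases hker_eq _ h1 with h | h
    · exact h
    · exfalso
      refine hcyu ?_
      rw [← h, map_pow, map_pow]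
      exact hMone _
  obtain ⟨s, hsA, hsχ⟩ : ∃ s, ∃ hs : s ∈ A, χ ⟨s, hs⟩ ≠ 1 := ⟨_, (cy ⟨u, huA⟩).2, hcyu⟩
  have hAQ : A ≤ (Q : Subgroup G) := by
    intro a ha
    refine hQeq ▸ ⟨⟨a, ha⟩, ?_, rfl⟩
    haveI : (Q₀ : Subgroup A).Normal :=
      ⟨fun n hn g => by rwa [show g * n * g⁻¹ = n from
        Subtype.ext (by simp [hAcomm (g : G) g.2 n n.2])]⟩
    refine mem_sylow_of_mem_normalizer Q₀ ((Subgroup.normalizer_eq_top_iff.mpr inferInstance).ge
      (Subgroup.mem_top _)) ?_
    obtain ⟨i, -, hi⟩ := (Nat.dvd_prime_pow Nat.prime_two).mp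
      (orderOf_dvd_of_pow_eq_one (n := 2 ^ 1) (by rw [pow_one]; exact hsq ⟨a, ha⟩))
    exact ⟨i, hi⟩
  have hA4 : Nat.card A ≤ 4 := by
    rw [← χ.ker.card_mul_index, Subgroup.index_ker]
    have h1 : Nat.card χ.range ≤ Nat.card (MulAut X) := Subgroup.card_le_card_group _
    rw [hM] at hker h1
    exact Nat.mul_le_mul hker h1
  have hclassA : ∀ v ∈ A, v ≠ 1 → IsConj u v := by
    intro v hv hv1
    haveI := Fintype.ofFinite A
    let o : Fin (2 - 1) := ⟨0, by norm_num⟩
    let F' : Fin 3 → {a : A // a ≠ 1} := fun i => ⟨(F (i, o)).1.1, fun e =>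
      (F (i, o)).2 (Subtype.ext e)⟩
    have hF'i : Function.Injective F' := fun i i' h => by
      have h0 : (F (i, o)).1.1 = (F (i', o)).1.1 := congrArg (fun a : {a : A // a ≠ 1} => a.1) h
      exact (Prod.ext_iff.mp (hF (Subtype.ext (Subtype.ext h0)))).1
    have hsur : Function.Surjective F' := by
      refine ((Fintype.bijective_iff_injective_and_card F').mpr ⟨hF'i, ?_⟩).2
      have h1 := Fintype.card_le_of_injective F' hF'i
      rw [Fintype.card_fin, Fintype.card_subtype_compl, Fintype.card_subtype_eq] at h1 ⊢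
      rw [Nat.card_eq_fintype_card] at hA4
      omega
    obtain ⟨i, hi⟩ := hsur ⟨⟨v, hv⟩, fun e => hv1 (congrArg Subtype.val e)⟩
    have e : ((cy^[(i : ℕ)] (⟨u, huA⟩ ^ 1) : A) : G) = v :=
      congrArg (fun a : {a : A // a ≠ 1} => ((a : A) : G)) hi
    rw [hcyI, pow_one] at e
    exact isConj_iff.mpr ⟨_, e⟩
  have hclass : ∀ v : G, orderOf v = 2 → IsConj u v := by
    intro v hv
    obtain ⟨g, hg⟩ := Transfer.exists_map_conj_le_sylow
      (Transfer.isPGroup_zpowers (p := 2) (x := v) ⟨1, by rw [hv, pow_one]⟩) Q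
    have h1 : g * v * g⁻¹ ∈ A := hQA (hg ⟨v, Subgroup.mem_zpowers v, rfl⟩)
    refine (hclassA _ h1 fun e => ?_).trans (isConj_iff.mpr ⟨g, rfl⟩).symm
    rw [conj_eq_one_iff] at e
    rw [e, orderOf_one] at hv
    omega
  -- the Brauer–Suzuki–Wall setting
  have hss : s * s = 1 := by
    have := congrArg Subtype.val (hsq ⟨s, hsA⟩); simpa [pow_two] using this
  have hsi : s⁻¹ = s := inv_eq_of_mul_eq_one_right hss
  have hs1 : s ≠ 1 := fun e => hsχ (by subst e; exact map_one χ)
  have hinvP : ∀ x ∈ (P : Subgroup G), s * x * s⁻¹ = x⁻¹ := by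
    intro x hx
    have hx' : s * x * s⁻¹ ∈ (P : Subgroup G) :=
      (Subgroup.mem_normalizer_iff.mp (hAN hsA) x).mp hx
    by_contra hne
    refine hsχ ((hχ _).mpr (hh.commute_prime_to_p P (hAN hsA) (hAord s hsA)
      (Subgroup.mul_mem _ hx hx') (fun e => hne (eq_inv_of_mul_eq_one_right e)) ?_))
    rw [hsi] at hx' ⊢
    calc s * (x * (s * x * s)) = (s * x * s) * x * s := by simp only [mul_assoc]
      _ = x * (s * x * s) * s := by rw [hh.commute_sylow P hx' hx]
  set K := (P : Subgroup G) ⊔ Subgroup.zpowers u with hKdef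
  have huu : u * u = 1 := by rw [← pow_two, ← hu, pow_orderOf_eq_one]
  have hKmem : ∀ x ∈ K, ∃ a ∈ (P : Subgroup G), ∃ c, (c = 1 ∨ c = u) ∧ x = a * c := by
    intro x hx
    rw [← SetLike.mem_coe, Subgroup.coe_mul_of_right_le_normalizer_left (P : Subgroup G)
      (Subgroup.zpowers u) (Subgroup.zpowers_le.mpr (hAN huA))] at hx
    obtain ⟨a, ha, c, hc, rfl⟩ := hx
    refine ⟨a, ha, c, ?_, rfl⟩
    obtain ⟨i, rfl⟩ := Subgroup.mem_zpowers_iff.mp hc
    rcases Int.even_or_odd' i with ⟨m, rfl | rfl⟩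
    · left; rw [zpow_mul, zpow_two, huu, one_zpow]
    · right; rw [zpow_add_one, zpow_mul, zpow_two, huu, one_zpow, one_mul]
  have hPK : (P : Subgroup G) ≤ K := le_sup_left
  have huK : u ∈ K := le_sup_right (a := (P : Subgroup G)) (Subgroup.mem_zpowers u)
  have hoddP : ∀ a ∈ (P : Subgroup G), a * a = 1 → a = 1 := fun a ha e => by
    obtain ⟨k, hk⟩ := orderOf_eq_prime_pow P.2 ha
    have h2 : orderOf a ∣ 2 := orderOf_dvd_of_pow_eq_one (by rw [pow_two, e])
    rw [hk] at h2
    rcases k with _ | k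
    · exact orderOf_eq_one_iff.mp (by rw [hk, pow_zero])
    · have := (dvd_pow_self 3 (Nat.succ_ne_zero k)).trans h2
      norm_num at this
  have hsK : s ∉ K := by
    intro hsK
    obtain ⟨a, ha, c, hc, e⟩ := hKmem s hsK
    have hca : c ∈ A := by rcases hc with rfl | rfl; exacts [one_mem A, huA]
    have ha1 : a = 1 := eq_one_of_mem_pgroup P.2 ha (hAord a (by
      rw [show a = s * c⁻¹ by rw [e, mul_inv_cancel_right]]
      exact A.mul_mem hsA (A.inv_mem hca)))
    rw [ha1, one_mul] at e
    rcases hc with rfl | rfl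
    · exact hs1 e
    · subst e; exact hsχ huχ
  have hset : BSW.Setting u K s :=
    { t2 := hu
      s2 := orderOf_eq_prime (by rw [pow_two]; exact hss) hs1
      comm := fun x hx x' hx' => by
        obtain ⟨a, ha, c, hc, rfl⟩ := hKmem x hx
        obtain ⟨a', ha', c', hc', rfl⟩ := hKmem x' hx'
        have h1 : Commute a a' := hh.commute_sylow P ha ha'
        have h2 : Commute u a := huP a ha
        have h3 : Commute u a' := huP a' ha'
        rcases hc with rfl | rfl <;> rcases hc' with rfl | rfl <;>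
          exact (((h1.mul_right (by first | exact Commute.one_right a | exact h2.symm)).mul_left
            ((by first | exact Commute.one_left a' | exact h3 : Commute _ a').mul_right
              (by first | exact Commute.one_left _ | exact Commute.one_right _ |
                exact Commute.refl u)))).eq
      tK := huK
      inv := fun x hx => by
        obtain ⟨a, ha, c, hc, rfl⟩ := hKmem x hx
        have hcs : s * c * s⁻¹ = c⁻¹ := by
          rcases hc with rfl | rfl
          · simp
          · rw [hAcomm s hsA u huA, mul_inv_cancel_right, inv_eq_of_mul_eq_one_right huu]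
        have hac : Commute c a := by
          rcases hc with rfl | rfl
          exacts [Commute.one_left a, huP a ha]
        rw [conj_mul.symm, hinvP a ha, hcs, mul_inv_rev]
        exact (hac.inv_inv).eq.symm
      uniq := fun x hx hxx => by
        obtain ⟨a, ha, c, hc, rfl⟩ := hKmem x hx
        have hac : Commute c a := by
          rcases hc with rfl | rfl
          exacts [Commute.one_left a, huP a ha]
        have hcc : c * c = 1 := by rcases hc with rfl | rfl; exacts [one_mul 1, huu]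
        rw [mul_assoc, ← mul_assoc c, hac.eq, mul_assoc a c, hcc, mul_one] at hxx
        rw [hoddP a ha hxx, one_mul]
        exact hc
      sK := hsK
      cent := fun g => by
        rw [← Subgroup.mem_centralizer_singleton_iff, hCu]
        constructor
        · intro hg
          obtain ⟨x, hx, a, ha, rfl⟩ := hA g hg
          rcases eq_or_ne (χ ⟨a, ha⟩) 1 with h1 | h1
          · left
            rcases hker_eq _ h1 with h | h <;> rw [show a = _ from congrArg Subtype.val h]
            exacts [by simpa using hPK hx, K.mul_mem (hPK hx) huK]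
          · right
            have h2 : χ (⟨a, ha⟩ * ⟨s, hsA⟩) = 1 := by
              rw [map_mul]
              have h3 : χ ⟨a, ha⟩ = χ ⟨s, hsA⟩ := by
                by_contra hne
                haveI := Fintype.ofFinite (MulAut X)
                have h5 := Finset.card_le_univ ({1, χ ⟨a, ha⟩, χ ⟨s, hsA⟩} : Finset (MulAut X))
                rw [Finset.card_eq_three.mpr ⟨_, _, _, h1.symm, hsχ.symm, hne, rfl⟩,
                  ← Nat.card_eq_fintype_card, hM] at h5
                omega
              rw [h3, ← pow_two]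
              exact hMone _
            rw [mul_assoc]
            rcases hker_eq _ h2 with h | h <;> rw [show a * s = _ from congrArg Subtype.val h]
            exacts [by simpa using hPK hx, K.mul_mem (hPK hx) huK]
        · have hKH : K ≤ H :=
            sup_le Subgroup.le_normalizer (Subgroup.zpowers_le.mpr (hAN huA))
          rintro (hg | hg)
          · exact hKH hg
          · rw [show g = g * s * s⁻¹ by rw [mul_inv_cancel_right]]
            exact H.mul_mem (hKH hg) (H.inv_mem (hAN hsA))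
      ti := fun g x hx hx1 hgx => by
        obtain ⟨a, ha, c, hc, rfl⟩ := hKmem x hx
        obtain ⟨a', ha', c', hc', e⟩ := hKmem _ hgx
        have hac : Commute c a := by
          rcases hc with rfl | rfl
          exacts [Commute.one_left a, huP a ha]
        have hac' : Commute c' a' := by
          rcases hc' with rfl | rfl
          exacts [Commute.one_left a', huP a' ha']
        have hcc : c * c = 1 := by rcases hc with rfl | rfl; exacts [one_mul 1, huu]
        have hcc' : c' * c' = 1 := by rcases hc' with rfl | rfl; exacts [one_mul 1, huu]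
        by_cases ha1 : a = 1
        · subst ha1
          rw [one_mul] at hx1 e
          rcases hc with rfl | rfl
          · exact absurd rfl hx1
          have h1 : a' * c' * (a' * c') = 1 := by
            rw [← e, ← pow_two, conj_pow, pow_two, huu]; group
          rw [mul_assoc, ← mul_assoc c', hac'.eq, mul_assoc a' c', hcc', mul_one] at h1
          rw [hoddP a' ha' h1, one_mul] at e
          rcases hc' with rfl | rfl
          · rw [conj_eq_one_iff] at e
            exact absurd e hu1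
          · exact mul_inv_eq_iff_eq_mul.mp e
        · have h1 : g * (a * a) * g⁻¹ = a' * a' := by
            calc g * (a * a) * g⁻¹ = g * (a * c) * g⁻¹ * (g * (a * c) * g⁻¹) := by
                  rw [show g * (a * c) * g⁻¹ * (g * (a * c) * g⁻¹) = g * (a * (c * a) * c) * g⁻¹ by
                    group, hac.eq]
                  simp only [mul_assoc, hcc, mul_one]
              _ = a' * a' := by
                  rw [e, mul_assoc a' c', ← mul_assoc c', hac'.eq, mul_assoc a' c', hcc', mul_one]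
          have hne : g * (a * a) * g⁻¹ ≠ 1 := fun h => ha1 (hoddP a ha (conj_eq_one_iff.mp h))
          have hgN : g ∈ H := by
            refine Sylow.smul_eq_iff_mem_normalizer.mp (hh.sylow_eq (g • P) P ?_
              (h1 ▸ Subgroup.mul_mem _ ha' ha') hne)
            rw [Transfer.mem_smul_sylow]
            have e2 : g⁻¹ * (g * (a * a) * g⁻¹) * g = a * a := by group
            rw [e2]
            exact Subgroup.mul_mem _ ha ha
          exact Subgroup.mem_centralizer_singleton_iff.mp (hCu ▸ hgN)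
      conj := fun v w hv hw => (hclass v hv).symm.trans (hclass w hw) }
  have hH : K ⊔ Subgroup.zpowers s = Subgroup.centralizer ({u} : Set G) := by
    refine le_antisymm (sup_le (fun x hx => ?_) (Subgroup.zpowers_le.mpr ?_)) fun g hg => ?_
    · exact Subgroup.mem_centralizer_singleton_iff.mpr ((hset.cent x).mpr (Or.inl hx))
    · exact Subgroup.mem_centralizer_singleton_iff.mpr (hAcomm s hsA u huA)
    · rcases (hset.cent g).mp (Subgroup.mem_centralizer_singleton_iff.mp hg) with h | h
      · exact Subgroup.mem_sup_left h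
      · rw [show g = g * s * s⁻¹ by rw [mul_inv_cancel_right]]
        exact Subgroup.mul_mem _ (Subgroup.mem_sup_left h)
          (Subgroup.inv_mem _ (Subgroup.mem_sup_right (Subgroup.mem_zpowers s)))
  obtain ⟨R, D, hG, hR, -, hDR, hRD, hNR, hD⟩ := hset.main hH
  have hnorm : D ≤ Subgroup.normalizer (R : Set G) := hNR ▸ le_sup_right
  have hD1 : D ≠ ⊥ := by
    intro h
    subst h
    rw [Subgroup.card_bot] at hDR
    have hG12 : Nat.card G = 12 := by rw [show Nat.card R = 3 by omega] at hG; omega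
    obtain ⟨j, hj⟩ := P.2.exists_card_eq
    have hj0 : j ≠ 0 := fun h0 => hh.sylow_ne_bot P (Subgroup.card_eq_one.mp (by
      rw [hj, h0, pow_zero]))
    have h1 := hset.card_centralizer
    have h2 : Nat.card (P : Subgroup G) * 2 ∣ Nat.card K := by
      refine Nat.Coprime.mul_dvd_of_dvd_of_dvd ?_ (Subgroup.card_dvd_of_le hPK)
        ((dvd_of_eq hu.symm).trans (K.orderOf_dvd_natCard huK))
      rw [hj]; exact (by norm_num : Nat.Coprime 3 2).pow_left j
    have h3 : 3 ≤ Nat.card (P : Subgroup G) := hj ▸ Nat.le_self_pow hj0 3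
    have h4 := Nat.le_of_dvd Nat.card_pos h2
    exact hh.centralizer_ne_top hu1 (Subgroup.eq_top_of_le_card _ (by omega))
  have hR3 : ¬ 3 ∣ Nat.card R := by
    intro hd
    obtain ⟨z, hz⟩ := exists_prime_orderOf_dvd_card' (G := R) 3 hd
    rw [← Subgroup.orderOf_coe] at hz
    obtain ⟨P', hP'⟩ := hh.exists_sylow (x := (z : G)) ⟨1, by rw [hz, pow_one]⟩
    obtain ⟨g, rfl⟩ := MulAction.exists_smul_eq G P P'
    rw [Transfer.mem_smul_sylow] at hP'
    have h1 := huP _ hP'
    have h2 : g * u * g⁻¹ ∈ R := by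
      rw [← hR z z.2 (fun e => by rw [e, orderOf_one] at hz; omega),
        Subgroup.mem_centralizer_singleton_iff]
      calc g * u * g⁻¹ * z = g * (u * (g⁻¹ * z * g)) * g⁻¹ := by group
        _ = _ := by rw [h1]; group
    have h3 := R.orderOf_dvd_natCard h2
    rw [Transfer.orderOf_conj, hu] at h3
    omega
  have hDp : IsPGroup 3 D := by
    intro d
    obtain ⟨x, c, hxc, hx, hc, ⟨k, hk⟩, hcc⟩ := PPrimeAbelian.exists_split hp.out (d : G)
    have hcD : c ∈ D := Subgroup.zpowers_le.mpr d.2 hc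
    obtain ⟨r, hr, hr1⟩ : ∃ r ∈ R, r ≠ 1 := by
      by_contra hcon
      push Not at hcon
      rw [(Subgroup.eq_bot_iff_forall _).mpr hcon, Subgroup.card_bot] at hDR
      have := Nat.card_pos (α := D)
      omega
    have hc1 : c = 1 := by
      rw [← Subgroup.mem_bot, ← hRD]
      refine ⟨?_, hcD⟩
      rw [← hR r hr hr1]
      refine Subgroup.mem_centralizer_singleton_iff.mpr (comm_of_ab hh.ab (hp.out.coprime_iff_not_dvd.mp
        (PPrimeAbelian.coprime_card_sup (A := R) (B := Subgroup.zpowers c)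
          (Subgroup.zpowers_le.mpr (hnorm hcD)) (hp.out.coprime_iff_not_dvd.mpr hR3).symm
          (by rwa [Nat.card_zpowers])).symm)
        (Subgroup.mem_sup_right (Subgroup.mem_zpowers c)) (Subgroup.mem_sup_left hr))
    refine ⟨k, Subtype.ext ?_⟩
    rw [Subgroup.coe_pow, hxc, hc1, mul_one, ← hk, pow_orderOf_eq_one]
    rfl
  obtain ⟨P', hP'⟩ := hDp.exists_le_sylow
  obtain ⟨g, rfl⟩ := MulAction.exists_smul_eq G P P'
  have hDeq : D = ((g • P : Sylow 3 G) : Subgroup G) := by
    refine Subgroup.eq_of_le_of_card_ge hP' (Nat.le_of_dvd Nat.card_pos ?_)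
    obtain ⟨j, hj⟩ := (g • P).2.exists_card_eq
    obtain ⟨i, hi⟩ := IsPGroup.iff_card.mp hDp
    have hi0 : i ≠ 0 := fun h0 => hD1 (Subgroup.card_eq_one.mp (by rw [hi, h0, pow_zero]))
    have h3D : 3 ∣ Nat.card D := hi ▸ dvd_pow_self 3 hi0
    have h3 : 3 ^ j ∣ 2 * Nat.card G := hj ▸ (Subgroup.card_subgroup_dvd_card _).mul_left 2
    rw [hG, show Nat.card R + 1 = 2 * (Nat.card D + 1) by omega,
      show Nat.card R - 1 = 2 * Nat.card D by omega] at h3
    have hco : Nat.Coprime (3 ^ j) (Nat.card R * (2 * (Nat.card D + 1))) := by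
      refine Nat.Coprime.pow_left _ ?_
      rw [Nat.prime_three.coprime_iff_not_dvd]
      intro h
      rcases Nat.prime_three.dvd_mul.mp h with h | h
      · exact hR3 h
      · omega
    have h4 := hco.dvd_of_dvd_mul_left h3
    rw [hj]
    exact ((by norm_num : Nat.Coprime 3 2).pow_left j).dvd_of_dvd_mul_left h4
  obtain ⟨hND, w, hw, hwD, hwinv, hNw⟩ := hD D le_rfl hD1
  have hgu : g * u * g⁻¹ ∈ D ⊔ Subgroup.zpowers w := by
    rw [← hNw, hDeq]
    refine Sylow.smul_eq_iff_mem_normalizer.mp ?_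
    rw [← mul_smul, inv_mul_cancel_right, mul_smul, Sylow.smul_eq_iff_mem_normalizer.mpr (hAN huA)]
  rw [← SetLike.mem_coe, Subgroup.coe_mul_of_right_le_normalizer_left D (Subgroup.zpowers w)
    (Subgroup.zpowers_le.mpr (by rw [hNw]; exact Subgroup.mem_sup_right (Subgroup.mem_zpowers w)))]
    at hgu
  obtain ⟨d, hd, e', he', heq⟩ := hgu
  rw [SetLike.mem_coe] at hd he'
  have hd' : d * x₀ ^ 0 = d := by simp
  have hcen : ∀ z ∈ D, g * u * g⁻¹ * z = z * (g * u * g⁻¹) := by
    intro z hz
    rw [hDeq, Transfer.mem_smul_sylow] at hz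
    calc g * u * g⁻¹ * z = g * (u * (g⁻¹ * z * g)) * g⁻¹ := by group
      _ = _ := by rw [huP _ hz]; group
  obtain ⟨i, rfl⟩ := Subgroup.mem_zpowers_iff.mp he'
  have hww : w * w = 1 := (BSW.orderOf_two_iff.mp hw).1
  rcases Int.even_or_odd' i with ⟨m, rfl | rfl⟩
  · have e : g * u * g⁻¹ = d := by
      rw [← heq, zpow_mul, zpow_two, hww, one_zpow]; simp
    have h1 := hDp.exists_card_eq
    obtain ⟨k, hk⟩ := h1
    have h2 := D.orderOf_dvd_natCard hd
    rw [← e, Transfer.orderOf_conj, hu, hk] at h2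
    exact absurd ((Nat.prime_dvd_prime_iff_eq Nat.prime_two Nat.prime_three).mp
      (Nat.prime_two.dvd_of_dvd_pow h2)) (by norm_num)
  · have e : g * u * g⁻¹ = d * w := by
      rw [← heq, zpow_add_one, zpow_mul, zpow_two, hww, one_zpow, one_mul]
    obtain ⟨z, hz, hz1⟩ : ∃ z ∈ D, z ≠ 1 := by
      by_contra hcon
      push Not at hcon
      exact hD1 ((Subgroup.eq_bot_iff_forall _).mpr hcon)
    have h1 := hcen z hz
    rw [e] at h1
    have hdz : d * z = z * d := by
      rw [hDeq] at hd hz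
      exact hh.commute_sylow (g • P) hd hz
    have hwz : w * z = z * w := by
      rw [← mul_assoc z d w, ← hdz, mul_assoc d w z, mul_assoc d z w] at h1
      exact mul_left_cancel h1
    have h2 := hwinv z hz
    rw [hwz, mul_inv_cancel_right] at h2
    rw [hDeq, Transfer.mem_smul_sylow] at hz
    have h3 := hoddP _ hz (by
      calc g⁻¹ * z * g * (g⁻¹ * z * g) = g⁻¹ * (z * z) * g := by group
        _ = 1 := by nth_rewrite 2 [h2]; group)
    exact hz1 (by
      calc z = g * (g⁻¹ * z * g) * g⁻¹ := by group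
        _ = 1 := by rw [h3]; group)

end CfsgLib.CycAb
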