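import Cfsg.Agent.Lib.CyclicSylow.AbelianBasic
import Cfsg.Agent.Lib.OddOrder.Solvable
import Cfsg.Agent.Lib.ZStar.Basic

/-!
# The simple case: the normalizer of a cyclic Sylow subgroup is large
-/

set_option autoImplicit false
set_option linter.style.haveILetI false
set_option linter.unusedSectionVars false

namespace CfsgLib.CycAb

variable {G : Type*} [Group G] {p : ℕ}

/-- A simple group, not good, all of whose proper subgroups are good. -/
structure Hyp (p : ℕ) (G : Type*) [Group G] : Prop where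
  cyc : Cyc p G
  ab : Ab p G
  simple : IsSimpleGroup G
  proper : ∀ H : Subgroup G, H ≠ ⊤ → Good p H
  notGood : ¬ Good p G

variable [Finite G] [hp : Fact p.Prime]

theorem Hyp.eq_bot_or_eq_top (hh : Hyp p G) (N : Subgroup G) [N.Normal] : N = ⊥ ∨ N = ⊤ :=
  haveI := hh.simple
  Subgroup.Normal.eq_bot_or_eq_top inferInstance

theorem Hyp.noComplement (hh : Hyp p G) : ¬ Cfsg.HasNormalPComplement p G :=
  fun h => hh.notGood (Or.inl h)

theorem Hyp.not_normal (hh : Hyp p G) (P : Sylow p G) : ¬ (P : Subgroup G).Normal := by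
  intro h
  refine hh.notGood (Or.inr fun Q => ?_)
  obtain ⟨g, hg⟩ := MulAction.exists_smul_eq G P Q
  rwa [← hg, Sylow.smul_eq_iff_mem_normalizer.mpr
    ((Subgroup.normalizer_eq_top_iff.mpr h).ge (Subgroup.mem_top g))]

theorem Hyp.not_comm (hh : Hyp p G) : ¬ ∀ a b : G, a * b = b * a := by
  intro h
  obtain ⟨P⟩ := (inferInstance : Nonempty (Sylow p G))
  refine hh.not_normal P ⟨fun x hx g => ?_⟩
  rwa [h g x, mul_inv_cancel_right]

theorem Hyp.center_eq_bot (hh : Hyp p G) : Subgroup.center G = ⊥ :=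
  (hh.eq_bot_or_eq_top _).resolve_right fun h => hh.not_comm fun a b =>
    (Subgroup.mem_center_iff.mp (h ▸ Subgroup.mem_top b : b ∈ Subgroup.center G) a)

theorem Hyp.centralizer_ne_top (hh : Hyp p G) {x : G} (hx : x ≠ 1) :
    Subgroup.centralizer ({x} : Set G) ≠ ⊤ := fun h => hx (by
  rw [← Subgroup.mem_bot, ← hh.center_eq_bot, Subgroup.mem_center_iff]
  intro g
  exact Subgroup.mem_centralizer_singleton_iff.mp (h ▸ Subgroup.mem_top g))

theorem Hyp.sylow_ne_bot (hh : Hyp p G) (P : Sylow p G) : (P : Subgroup G) ≠ ⊥ := fun h =>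
  hh.not_normal P (h ▸ inferInstance)

theorem Hyp.normalizer_ne_top (hh : Hyp p G) (P : Sylow p G) {Q : Subgroup G}
    (hQ : Q ≤ (P : Subgroup G)) (hQ1 : Q ≠ ⊥) : Subgroup.normalizer (Q : Set G) ≠ ⊤ := by
  intro h
  haveI := Subgroup.normalizer_eq_top_iff.mp h
  rcases hh.eq_bot_or_eq_top Q with h0 | h0
  · exact hQ1 h0
  · exact hh.not_normal P ((top_le_iff.mp (h0 ▸ hQ)) ▸ inferInstance)

theorem Hyp.commute_sylow (hh : Hyp p G) (P : Sylow p G) {x y : G} (hx : x ∈ (P : Subgroup G))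
    (hy : y ∈ (P : Subgroup G)) : x * y = y * x :=
  haveI := hh.cyc P
  congrArg Subtype.val ((IsCyclic.commGroup (α := (P : Subgroup G))).mul_comm ⟨x, hx⟩ ⟨y, hy⟩)

/-- A proper subgroup containing `P` and a `p'`-element of `N(P)` acting faithfully lies in
`N(P)`. -/
theorem Hyp.le_normalizer_sylow (hh : Hyp p G) (P : Sylow p G) {L : Subgroup G} (hL : L ≠ ⊤)
    (hPL : (P : Subgroup G) ≤ L) {a : G} (haL : a ∈ L)
    (haN : a ∈ Subgroup.normalizer ((P : Subgroup G) : Set G)) (hac : ¬ p ∣ orderOf a)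
    (hfree : ∀ x ∈ (P : Subgroup G), x ≠ 1 → a * x * a⁻¹ ≠ x) :
    L ≤ Subgroup.normalizer ((P : Subgroup G) : Set G) := by
  rcases hh.proper L hL with hg | hg
  · exfalso
    obtain ⟨x, hx, hx1⟩ : ∃ x ∈ (P : Subgroup G), x ≠ 1 := by
      by_contra hcon
      push Not at hcon
      exact hh.sylow_ne_bot P ((Subgroup.eq_bot_iff_forall _).mpr hcon)
    obtain ⟨S, M, hM, hc⟩ := id hg
    haveI := hM
    have hmem : ∀ m : L, m ∈ M ↔ (orderOf m).Coprime p := fun m =>
      Transfer.mem_iff_coprime_orderOf (Transfer.coprime_card_of_isComplement' hc)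
        (Transfer.isPGroup_quotient_of_isComplement' hc)
    have haM : (⟨a, haL⟩ : L) ∈ M := (hmem _).mpr (by
      rw [← Subgroup.orderOf_coe]; exact (hp.out.coprime_iff_not_dvd.mpr hac).symm)
    have hcM : (⟨x, hPL hx⟩ : L) * ⟨a, haL⟩ * (⟨x, hPL hx⟩ : L)⁻¹ * (⟨a, haL⟩ : L)⁻¹ ∈ M :=
      M.mul_mem (hM.conj_mem _ haM _) (M.inv_mem haM)
    have h1 := (hmem _).mp hcM
    rw [← Subgroup.orderOf_coe] at h1
    have hxP : x * a * x⁻¹ * a⁻¹ ∈ (P : Subgroup G) := by
      rw [show x * a * x⁻¹ * a⁻¹ = x * (a * x⁻¹ * a⁻¹) by group]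
      exact Subgroup.mul_mem _ hx ((Subgroup.mem_normalizer_iff.mp haN _).mp (Subgroup.inv_mem _ hx))
    have h2 : x * a * x⁻¹ * a⁻¹ = 1 :=
      eq_one_of_mem_pgroup P.2 hxP (hp.out.coprime_iff_not_dvd.mp (by simpa using h1.symm))
    refine hfree x hx hx1 ?_
    rw [mul_inv_eq_one, mul_inv_eq_iff_eq_mul] at h2
    rw [← h2, mul_inv_cancel_right]
  · have hn := hg (P.subtype hPL)
    intro l hl
    rw [Subgroup.mem_normalizer_iff]
    have key : ∀ m : L, ∀ y ∈ (P : Subgroup G), (m : G) * y * (m : G)⁻¹ ∈ (P : Subgroup G) :=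
      fun m y hy => hn.conj_mem ⟨y, hPL hy⟩ hy m
    intro y
    refine ⟨key ⟨l, hl⟩ y, fun hy => ?_⟩
    have := key ⟨l, hl⟩⁻¹ _ hy
    simpa [mul_assoc] using this

theorem Hyp.normalizer_le (hh : Hyp p G) (P : Sylow p G) {Q : Subgroup G}
    (hQ : Q ≤ (P : Subgroup G)) (hQ1 : Q ≠ ⊥) :
    Subgroup.normalizer (Q : Set G) ≤ Subgroup.normalizer ((P : Subgroup G) : Set G) := by
  obtain ⟨a, haN, hac, hfree⟩ := exists_prime_to_p P (hh.cyc P) hh.noComplement
  have hnorm : ∀ g ∈ Subgroup.normalizer ((P : Subgroup G) : Set G),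
      g ∈ Subgroup.normalizer (Q : Set G) := by
    intro g hg
    rw [← Transfer.map_conj_eq_self_iff] at hg ⊢
    have hle : Q.map (MulAut.conj g).toMonoidHom ≤ (P : Subgroup G) := hg ▸ Subgroup.map_mono hQ
    have hc : Nat.card (Q.map (MulAut.conj g).toMonoidHom) = Nat.card Q :=
      Subgroup.card_map_of_injective (MulAut.conj g).injective
    exact le_antisymm (le_of_card_dvd (hh.cyc P) hle hQ hc.dvd)
      (le_of_card_dvd (hh.cyc P) hQ hle hc.symm.dvd)
  exact hh.le_normalizer_sylow P (hh.normalizer_ne_top P hQ hQ1)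
    (fun x hx => hnorm x (Subgroup.le_normalizer hx)) (hnorm a haN) haN hac hfree

theorem Hyp.centralizer_le (hh : Hyp p G) (P : Sylow p G) {x : G} (hx : x ∈ (P : Subgroup G))
    (hx1 : x ≠ 1) :
    Subgroup.centralizer ({x} : Set G) ≤ Subgroup.normalizer ((P : Subgroup G) : Set G) := by
  intro g hg
  refine hh.normalizer_le P (Q := Subgroup.zpowers x) (Subgroup.zpowers_le.mpr hx)
    (fun e => hx1 (Subgroup.zpowers_eq_bot.mp e)) ?_
  rw [Subgroup.mem_centralizer_singleton_iff] at hg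
  rw [← Transfer.map_conj_eq_self_iff, MonoidHom.map_zpowers]
  simp [hg]

theorem Hyp.sylow_eq (hh : Hyp p G) (P Q : Sylow p G) {x : G} (hx : x ∈ (P : Subgroup G))
    (hxQ : x ∈ (Q : Subgroup G)) (hx1 : x ≠ 1) : P = Q := by
  refine Sylow.ext (P.3 Q.2 ?_).symm
  intro y hy
  by_contra hyQ
  have hle : (Q : Subgroup G) ≤ (P : Subgroup G) := fun z hz =>
    mem_sylow_of_mem_normalizer P (hh.centralizer_le P hx hx1
      (Subgroup.mem_centralizer_singleton_iff.mpr (hh.commute_sylow Q hz hxQ)))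
      (orderOf_eq_prime_pow Q.2 hz)
  exact hyQ ((Q.3 P.2 hle).le hy)

theorem Hyp.exists_sylow (hh : Hyp p G) {x : G} (hx : ∃ k : ℕ, orderOf x = p ^ k) :
    ∃ P : Sylow p G, x ∈ (P : Subgroup G) := by
  obtain ⟨P, hP⟩ := (Transfer.isPGroup_zpowers hx).exists_le_sylow
  exact ⟨P, hP (Subgroup.mem_zpowers x)⟩

theorem Hyp.ne_two (hh : Hyp p G) : p ≠ 2 := by
  rintro rfl
  obtain ⟨P⟩ := (inferInstance : Nonempty (Sylow 2 G))
  exact hh.noComplement (ZStar.hasNormalPComplement_of_cyclic P (hh.cyc P))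

theorem Hyp.odd_of_pgroup (hh : Hyp p G) {x : G} (hx : ∃ k : ℕ, orderOf x = p ^ k) :
    Odd (orderOf x) := by
  obtain ⟨k, hk⟩ := hx
  exact hk ▸ (hp.out.odd_of_ne_two hh.ne_two).pow

theorem Hyp.exists_involution (hh : Hyp p G) : ∃ u : G, orderOf u = 2 := by
  by_contra hcon
  push Not at hcon
  refine hh.not_comm ?_
  haveI : Group.IsSolvable G := OddOrder.odd_order_solvable (Nat.not_even_iff_odd.mp fun he => by
    haveI := Fact.mk Nat.prime_two
    obtain ⟨u, hu⟩ := exists_prime_orderOf_dvd_card' (G := G) 2 (even_iff_two_dvd.mp he)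
    exact hcon u hu)
  haveI := hh.simple
  exact IsSimpleGroup.comm_iff_isSolvable.mpr inferInstance

/-- A Hall complement of `P` in `N(P)`. -/
theorem Hyp.exists_hall (hh : Hyp p G) (P : Sylow p G) :
    ∃ A : Subgroup G, A ≤ Subgroup.normalizer ((P : Subgroup G) : Set G) ∧ ¬ p ∣ Nat.card A ∧
      Nat.card ↥(Subgroup.normalizer ((P : Subgroup G) : Set G)) =
        Nat.card (P : Subgroup G) * Nat.card A ∧
      ∀ h ∈ Subgroup.normalizer ((P : Subgroup G) : Set G),
        ∃ y ∈ (P : Subgroup G), ∃ a ∈ A, h = y * a := by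
  set N := Subgroup.normalizer ((P : Subgroup G) : Set G)
  have hPN : (P : Subgroup G) ≤ N := Subgroup.le_normalizer
  let P' : Sylow p N := P.subtype hPN
  haveI : (P' : Subgroup N).Normal := Subgroup.normal_in_normalizer
  obtain ⟨A, hA⟩ := Subgroup.exists_right_complement'_of_coprime P'.card_coprime_index
  have hc : Nat.card (P' : Subgroup N) = Nat.card (P : Subgroup G) :=
    Nat.card_congr (Subgroup.subgroupOfEquivOfLe hPN).toEquiv
  refine ⟨A.map N.subtype, Subgroup.map_subtype_le _, ?_, ?_, fun h hh' => ?_⟩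
  · rw [Subgroup.card_map_of_injective N.subtype_injective]
    rw [← hA.symm.index_eq_card]
    exact P'.not_dvd_index
  · rw [Subgroup.card_map_of_injective N.subtype_injective, ← hc, hA.card_mul_card]
  · obtain ⟨⟨y, a⟩, he⟩ := hA.surjective (⟨h, hh'⟩ : N)
    exact ⟨((y : N) : G), y.2, ((a : N) : G), Subgroup.mem_map_of_mem N.subtype a.2,
      (congrArg Subtype.val he).symm⟩

theorem Hyp.commute_prime_to_p (hh : Hyp p G) (P : Sylow p G) {a x : G}
    (haN : a ∈ Subgroup.normalizer ((P : Subgroup G) : Set G)) (hac : ¬ p ∣ orderOf a)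
    (hx : x ∈ (P : Subgroup G)) (hx1 : x ≠ 1) (hax : a * x = x * a) :
    ∀ y ∈ (P : Subgroup G), a * y = y * a := fun y hy =>
  mul_inv_eq_iff_eq_mul.mp
    (commute_of_fixed P.2 (hh.cyc P) haN hac hx hx1 (mul_inv_eq_iff_eq_mul.mpr hax) y hy)

/-- In `N(P)` a `p'`-element commutes with any `p'`-element centralizing `P`. -/
theorem Hyp.commute_central (hh : Hyp p G) (P : Sylow p G) {b g : G}
    (hb : ∀ y ∈ (P : Subgroup G), b * y = y * b)
    (hbc : ¬ p ∣ orderOf b) (hg : g ∈ Subgroup.normalizer ((P : Subgroup G) : Set G)) :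
    g * b = b * g := by
  obtain ⟨A, hAN, hAc, hcard, hA⟩ := hh.exists_hall P
  have hbN : b ∈ Subgroup.normalizer ((P : Subgroup G) : Set G) := by
    rw [Subgroup.mem_normalizer_iff]
    intro y
    refine ⟨fun hy => by rw [hb y hy, mul_inv_cancel_right]; exact hy, fun hy => ?_⟩
    have h := hb _ hy
    rw [inv_mul_cancel_right] at h
    rwa [mul_left_cancel h] at hy
  obtain ⟨y, hy, a, ha, rfl⟩ := hA b hbN
  have hac : ¬ p ∣ orderOf a := fun hd => hAc (hd.trans (A.orderOf_dvd_natCard ha))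
  have hay : ∀ z ∈ (P : Subgroup G), a * z = z * a := fun z hz => by
    have h := hb z hz
    rw [mul_assoc, ← mul_assoc z y a, hh.commute_sylow P hz hy, mul_assoc] at h
    exact mul_left_cancel h
  have hy1 : y = 1 := by
    refine eq_one_of_mem_pgroup P.2 hy fun hd => hbc ?_
    have hco : (orderOf y).Coprime (orderOf a) := by
      obtain ⟨k, hk⟩ := orderOf_eq_prime_pow P.2 hy
      exact hk ▸ (hp.out.coprime_iff_not_dvd.mpr hac).pow_left k
    rw [(show Commute y a from (hay y hy).symm).orderOf_mul_eq_mul_orderOf_of_coprime hco]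
    exact hd.trans (dvd_mul_right _ _)
  subst hy1
  rw [one_mul] at hb ⊢
  obtain ⟨z, hz, c, hc, rfl⟩ := hA g hg
  rw [mul_assoc, comm_of_ab hh.ab hAc hc ha, ← mul_assoc, ← hay z hz, mul_assoc]

/-- The centralizer of a nontrivial `p'`-element centralizing `P` is `N(P)`. -/
theorem Hyp.centralizer_central (hh : Hyp p G) (P : Sylow p G) {b : G}
    (hb : ∀ y ∈ (P : Subgroup G), b * y = y * b) (hbc : ¬ p ∣ orderOf b) (hb1 : b ≠ 1) :
    Subgroup.centralizer ({b} : Set G) = Subgroup.normalizer ((P : Subgroup G) : Set G) := by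
  have hle : Subgroup.normalizer ((P : Subgroup G) : Set G) ≤ Subgroup.centralizer ({b} : Set G) :=
    fun g hg => Subgroup.mem_centralizer_singleton_iff.mpr (hh.commute_central P hb hbc hg)
  refine le_antisymm ?_ hle
  obtain ⟨a, haN, hac, hfree⟩ := exists_prime_to_p P (hh.cyc P) hh.noComplement
  exact hh.le_normalizer_sylow P (hh.centralizer_ne_top hb1)
    (Subgroup.le_normalizer.trans hle) (hle haN) haN hac hfree

end CfsgLib.CycAb
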